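import Groth.Agent.EtBCQ.Formula
import Groth.Agent.EtBCLoc.Local
import Groth.Agent.EtPBC0.StrictConn
import Groth.Agent.EtContLib.BaseSys

/-!
# Base change in every degree is local for the etale topology
-/

set_option autoImplicit false
set_option linter.style.haveILetI false
set_option maxHeartbeats 1000000

universe u

open CategoryTheory CategoryTheory.Limits AlgebraicGeometry HomologicalComplex Opposite

namespace Groth.Agent.EtBCQ

set_option backward.isDefEq.respectTransparency false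
set_option backward.isDefEq.respectTransparency.types false

theorem isIso_baseChange0Sh_id {T S : Scheme.{u}} (g : T ⟶ S) (c : IsPullback (𝟙 T) g g (𝟙 S)) (F : EtDesc.Sh T) :
    IsIso (EtBC.baseChange0Sh g (𝟙 S) g (𝟙 T) c.w F) := by
  refine EtBCLoc.isIso_baseChange0Sh_of_connected (𝟙 S) g g (𝟙 T) c F fun U y => ?_
  refine ⟨U, 𝟙 U, y, ⟨U, 𝟙 _, (Category.id_comp _).trans (Category.comp_id _).symm, inferInstance,
    EtBCLoc.geometricallyConnected_of_isIso _⟩, rfl⟩

/-- Base change in degree zero along an etale morphism. -/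
theorem isIso_baseChange0Sh_of_etale {T S V Ti : Scheme.{u}} (g : T ⟶ S) (v : V ⟶ S) [Etale v] (gi : Ti ⟶ V)
    (ti : Ti ⟶ T) (c : IsPullback ti gi g v) (F : EtDesc.Sh T) : IsIso (EtBC.baseChange0Sh g v gi ti c.w F) := by
  have c' : IsPullback (𝟙 Ti) gi gi (𝟙 V) := IsPullback.of_horiz_isIso ⟨by simp⟩
  exact EtBCLoc.isIso_baseChange0Sh_of_pieces c F (fun _ : PUnit.{u + 1} => EtCoh.top V)
    (fun y => ⟨PUnit.unit, y, rfl⟩)
    (fun _ => MorphismProperty.Over.mk ⊤ v ‹Etale v›) (fun _ => 𝟙 V) (fun _ => rfl)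
    (fun _ => Ti) (fun _ => Ti) (fun _ => gi) (fun _ => ti) (fun _ => c) (fun _ => gi) (fun _ => 𝟙 Ti)
    (fun _ => c') (fun _ => isIso_baseChange0Sh_id gi c' _)

theorem isIso_baseChange0_of_etale {T S V Ti : Scheme.{u}} (g : T ⟶ S) (v : V ⟶ S) [Etale v] (gi : Ti ⟶ V)
    (ti : Ti ⟶ T) (c : IsPullback ti gi g v) (F : EtCoh.Ab T) : IsIso (EtCoh.baseChange0 g v gi ti c.w F) := by
  haveI := isIso_baseChange0Sh_of_etale g v gi ti c (Groth.Agent.EtH0Lib.uSet F)
  exact EtPBC0.isIso_baseChange0_of_uSet g v gi ti c.w F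

/-- A map of abelian sheaves is an isomorphism if it is one on an etale covering. -/
theorem isIso_of_isIso_pull {X : Scheme.{u}} {ι : Type u} (U : ι → X.Etale) (hU : EtCoh.Covers U) {A B : EtCoh.Ab X}
    (φ : A ⟶ B) (h : ∀ i, IsIso ((EtCoh.pull (U i).hom).map φ)) : IsIso φ := by
  refine (EtFound.isIso_iff_stalks φ).2 fun Ω _ _ ξ => ?_
  obtain ⟨i, y, hy⟩ := hU (ξ.base (default : Spec (CommRingCat.of Ω)))
  haveI : Etale (U i).hom := (U i).prop
  obtain ⟨ξ', rfl, -⟩ := Scheme.exists_fac_of_etale_of_isSepClosed (U i).hom ξ y hy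
  haveI := h i
  exact (NatIso.isIso_map_iff (EtFound.stalkPullIso (U i).hom ξ') φ).1
    (inferInstanceAs (IsIso ((EtCoh.stalk ξ').map ((EtCoh.pull (U i).hom).map φ))))

/-- The inverse image of an injective resolution along an etale morphism. -/
noncomputable def pullResEt {T Ti : Scheme.{u}} (t : Ti ⟶ T) [Etale t] [PreservesFiniteLimits (EtCoh.pull t)]
    {F : EtCoh.Ab T} {F' : EtCoh.Ab Ti} (e : F' ⟶ (EtCoh.pull t).obj F) [IsIso e] (I : InjectiveResolution F) :
    InjectiveResolution F' where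
  cocomplex := ((EtCoh.pull t).mapHomologicalComplex _).obj I.cocomplex
  injective n := by
    haveI := I.injective n
    exact EtContLib.injective_pull_etale t (I.cocomplex.X n)
  hasHomology := inferInstance
  ι := (CochainComplex.single₀ _).map e ≫ RDer.mapAug (EtCoh.pull t) I.ι
  quasiIso := inferInstance

theorem pullResEt_ι {T Ti : Scheme.{u}} (t : Ti ⟶ T) [Etale t] [PreservesFiniteLimits (EtCoh.pull t)]
    {F : EtCoh.Ab T} {F' : EtCoh.Ab Ti} (e : F' ⟶ (EtCoh.pull t).obj F) [IsIso e] (I : InjectiveResolution F) :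
    (pullResEt t e I).ι.f 0 = e ≫ (EtCoh.pull t).map (I.ι.f 0) := by
  show ((CochainComplex.single₀ _).map e).f 0 ≫ (RDer.mapAug (EtCoh.pull t) I.ι).f 0 = _
  rw [mapAug_zero, CochainComplex.single₀_map_f_zero]

variable {X S Y T U V Ti Yi : Scheme.{u}} (f : X ⟶ S) (g : T ⟶ S) (h : Y ⟶ X) (e : Y ⟶ T) (c : IsPullback e h g f)
  (u : U ⟶ X) [Etale u] (v : V ⟶ S) [Etale v] (a : U ⟶ V) (wa : a ≫ v = u ≫ f)
  (gi : Ti ⟶ V) (ti : Ti ⟶ T) (cT : IsPullback ti gi g v) (hi : Yi ⟶ U) (ei : Yi ⟶ Ti) (cY : IsPullback ei hi gi a)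
  (q : Yi ⟶ Y) (cq : IsPullback q hi h u) (wqe : q ≫ e = ei ≫ ti)
  {F : EtCoh.Ab T} (n : ℕ)

include wa cT cY cq wqe in
theorem quasiIsoAt_pull_theta [PreservesFiniteLimits (EtCoh.pull e)] [PreservesFiniteLimits (EtCoh.pull ei)]
    (I : InjectiveResolution F) (J : InjectiveResolution ((EtCoh.pull e).obj F))
    (ψ' : ((EtCoh.pull e).mapHomologicalComplex (ComplexShape.up ℕ)).obj I.cocomplex ⟶ J.cocomplex)
    (hψ : (EtCoh.pull e).map (I.ι.f 0) ≫ ψ'.f 0 = J.ι.f 0)
    (hloc : IsIso (EtBC.bcQ gi a hi ei cY.w n ((EtCoh.pull ti).obj F))) :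
    QuasiIsoAt (((EtCoh.pull u).mapHomologicalComplex _).map (theta g f h e c.w I J ψ')) n := by
  haveI := EtFound.pull_preservesFiniteLimits ti
  haveI := EtFound.pull_preservesFiniteLimits q
  haveI := EtFound.pull_preservesFiniteLimits a
  haveI := EtFound.pull_preservesFiniteLimits u
  haveI : Etale ti := MorphismProperty.of_isPullback (P := @Etale) cT.flip ‹Etale v›
  haveI : Etale q := MorphismProperty.of_isPullback (P := @Etale) cq.flip ‹Etale u›
  let τ := sqPullIso e ti ei q wqe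
  let I' := pullResEt ti (𝟙 ((EtCoh.pull ti).obj F)) I
  let J' := pullResEt q (τ.hom.app F) J
  let ψ'' : ((EtCoh.pull ei).mapHomologicalComplex (ComplexShape.up ℕ)).obj I'.cocomplex ⟶ J'.cocomplex :=
    (NatTrans.mapHomologicalComplex τ.hom (ComplexShape.up ℕ)).app I.cocomplex ≫
      ((EtCoh.pull q).mapHomologicalComplex _).map ψ'
  have hψ'' : (EtCoh.pull ei).map (I'.ι.f 0) ≫ ψ''.f 0 = J'.ι.f 0 := by
    rw [pullResEt_ι, pullResEt_ι, Category.id_comp]
    show (EtCoh.pull ei).map ((EtCoh.pull ti).map (I.ι.f 0)) ≫ τ.hom.app _ ≫ (EtCoh.pull q).map (ψ'.f 0) = _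
    refine (Category.assoc _ _ _).symm.trans ((congrArg (· ≫ _) (τ.hom.naturality (I.ι.f 0))).trans ?_)
    refine (Category.assoc _ _ _).trans (congrArg (τ.hom.app F ≫ ·) ?_)
    exact ((EtCoh.pull q).map_comp _ _).symm.trans (congrArg (EtCoh.pull q).map hψ)
  have h' : QuasiIsoAt (theta gi a hi ei cY.w I' J' ψ'') n :=
    (isIso_bcQ_iff gi a hi ei cY.w I' J' ψ'' hψ'' n).1 hloc
  let α₁ := (NatTrans.mapHomologicalComplex (sqPullIso v f u a wa).hom (ComplexShape.up ℕ)).app
    (((EtCoh.push g).mapHomologicalComplex (ComplexShape.up ℕ)).obj I.cocomplex)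
  let α₂ := ((EtCoh.pull a).mapHomologicalComplex (ComplexShape.up ℕ)).map
    ((NatTrans.mapHomologicalComplex (bc0Nat g v gi ti cT.w) (ComplexShape.up ℕ)).app I.cocomplex)
  let β := (NatTrans.mapHomologicalComplex (bc0Nat h u hi q cq.w) (ComplexShape.up ℕ)).app J.cocomplex
  have key : ((EtCoh.pull u).mapHomologicalComplex _).map (theta g f h e c.w I J ψ') ≫ β =
      α₁ ≫ α₂ ≫ theta gi a hi ei cY.w I' J' ψ'' := by
    refine HomologicalComplex.hom_ext _ _ fun j => ?_
    show (EtCoh.pull u).map (EtCoh.baseChange0 g f h e c.w (I.cocomplex.X j) ≫ (EtCoh.push h).map (ψ'.f j)) ≫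
        EtCoh.baseChange0 h u hi q cq.w (J.cocomplex.X j) =
      sqPull v f u a wa ((EtCoh.push g).obj (I.cocomplex.X j)) ≫
        (EtCoh.pull a).map (EtCoh.baseChange0 g v gi ti cT.w (I.cocomplex.X j)) ≫
          EtCoh.baseChange0 gi a hi ei cY.w ((EtCoh.pull ti).obj (I.cocomplex.X j)) ≫
            (EtCoh.push hi).map (sqPull e ti ei q wqe (I.cocomplex.X j) ≫ (EtCoh.pull q).map (ψ'.f j))
    rw [Functor.map_comp, Category.assoc, baseChange0_naturality, ← Category.assoc,
      baseChange0_paste f g h e c.w u v a wa gi ti cT.w hi ei cY.w q cq.w wqe, Functor.map_comp]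
    simp only [Category.assoc]
  haveI : IsIso α₁ := by
    haveI : ∀ j, IsIso (α₁.f j) := fun j =>
      inferInstanceAs (IsIso ((sqPullIso v f u a wa).hom.app ((EtCoh.push g).obj (I.cocomplex.X j))))
    exact HomologicalComplex.Hom.isIso_of_components _
  haveI : IsIso ((NatTrans.mapHomologicalComplex (bc0Nat g v gi ti cT.w) (ComplexShape.up ℕ)).app I.cocomplex) := by
    haveI : ∀ j, IsIso (((NatTrans.mapHomologicalComplex (bc0Nat g v gi ti cT.w) (ComplexShape.up ℕ)).app
      I.cocomplex).f j) := fun j => isIso_baseChange0_of_etale g v gi ti cT (I.cocomplex.X j)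
    exact HomologicalComplex.Hom.isIso_of_components _
  haveI : IsIso α₂ := inferInstance
  haveI : ∀ j, IsIso (β.f j) := fun j => isIso_baseChange0_of_etale h u hi q cq (J.cocomplex.X j)
  haveI : IsIso β := HomologicalComplex.Hom.isIso_of_components _
  have h'' : QuasiIsoAt (((EtCoh.pull u).mapHomologicalComplex _).map (theta g f h e c.w I J ψ') ≫ β) n := by
    rw [key]
    haveI := h'
    infer_instance
  exact (quasiIsoAt_iff_comp_right _ β n).1 h''

/-- Base change in each degree is local for the etale topology. -/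
theorem isIso_bcQ_of_pieces [PreservesFiniteLimits (EtCoh.pull e)] (F : EtCoh.Ab T)
    {ι : Type u} (Us : ι → X.Etale) (hU : EtCoh.Covers Us) (Vs : ι → S.Etale)
    (as : ∀ i, (Us i).left ⟶ (Vs i).left) (ha : ∀ i, as i ≫ (Vs i).hom = (Us i).hom ≫ f)
    (Tis Yis : ι → Scheme.{u}) (gis : ∀ i, Tis i ⟶ (Vs i).left) (tis : ∀ i, Tis i ⟶ T)
    (cTs : ∀ i, IsPullback (tis i) (gis i) g (Vs i).hom)
    (his : ∀ i, Yis i ⟶ (Us i).left) (eis : ∀ i, Yis i ⟶ Tis i)
    (cYs : ∀ i, IsPullback (eis i) (his i) (gis i) (as i))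
    [∀ i, PreservesFiniteLimits (EtCoh.pull (eis i))]
    (hloc : ∀ i, IsIso (EtBC.bcQ (gis i) (as i) (his i) (eis i) (cYs i).w n ((EtCoh.pull (tis i)).obj F))) :
    IsIso (EtBC.bcQ g f h e c.w n F) := by
  haveI := EtFound.pull_preservesFiniteLimits f
  let I := injectiveResolution F
  let J := injectiveResolution ((EtCoh.pull e).obj F)
  obtain ⟨ψ', hψ⟩ := exists_psi e I J
  refine (isIso_bcQ_iff g f h e c.w I J ψ' hψ n).2 ((quasiIsoAt_iff_isIso_homologyMap _ _).2 ?_)
  refine isIso_of_isIso_pull Us hU _ fun i => ?_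
  haveI := EtFound.pull_preservesFiniteLimits (Us i).hom
  haveI : Etale (Us i).hom := (Us i).prop
  haveI : Etale (Vs i).hom := (Vs i).prop
  have hbig : IsPullback (eis i ≫ tis i) (his i) g ((Us i).hom ≫ f) := by
    rw [← ha i]
    exact (cYs i).paste_horiz (cTs i)
  let q : Yis i ⟶ Y := c.lift (eis i ≫ tis i) (his i ≫ (Us i).hom) (by rw [hbig.w, Category.assoc])
  have hqe : q ≫ e = eis i ≫ tis i := c.lift_fst _ _ _
  have sqY : IsPullback q (his i) h (Us i).hom :=
    IsPullback.of_right (by rw [hqe]; exact hbig) (c.lift_snd _ _ _) c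
  exact (quasiIsoAt_map_iff (EtCoh.pull (Us i).hom) _ n).1
    (quasiIsoAt_pull_theta f g h e c (Us i).hom (Vs i).hom (as i) (ha i) (gis i) (tis i) (cTs i) (his i) (eis i)
      (cYs i) q sqY hqe n I J ψ' hψ (hloc i))

end Groth.Agent.EtBCQ
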