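import Groth.Agent.S4329
import Groth.Agent.KFlatLib.Scheme.Adjoint
import Groth.Agent.EtFound.PullStalk
import Groth.Prelude.Def_EtBCD
import Mathlib.CategoryTheory.Functor.Derived.Adjunction
import Mathlib.CategoryTheory.Adjunction.Unique

/-!
# The derived adjunction between inverse and direct images of abelian etale sheaves
-/

set_option autoImplicit false
set_option linter.style.haveILetI false
set_option maxHeartbeats 1000000

universe u

open CategoryTheory CategoryTheory.Limits AlgebraicGeometry

attribute [local instance] HasDerivedCategory.standard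

namespace Groth.Agent.EtBCQ

set_option backward.isDefEq.respectTransparency false
set_option backward.isDefEq.respectTransparency.types false

/-- A functor factoring through a localization is a left derived functor. -/
theorem isLeftDerived_of_isIso {C D H : Type*} [Category C] [Category D] [Category H] {L : C ⥤ D}
    (W : MorphismProperty C) [L.IsLocalization W] {F : C ⥤ H} {G : D ⥤ H} (α : L ⋙ G ⟶ F) [IsIso α] :
    G.IsLeftDerivedFunctor α W := by
  haveI := Localization.full_whiskeringLeft L W H
  haveI := Localization.faithful_whiskeringLeft L W H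
  refine ⟨⟨⟨IsTerminal.ofUniqueHom
    (fun E => CostructuredArrow.homMk (((Functor.whiskeringLeft C D H).obj L).preimage (E.hom ≫ inv α)) ?_)
    fun E m => ?_⟩⟩⟩
  · show ((Functor.whiskeringLeft C D H).obj L).map _ ≫ α = E.hom
    rw [Functor.map_preimage, Category.assoc, IsIso.inv_hom_id, Category.comp_id]
  · refine CostructuredArrow.hom_ext _ _ (((Functor.whiskeringLeft C D H).obj L).map_injective ?_)
    refine Eq.trans ?_ (((Functor.whiskeringLeft C D H).obj L).map_preimage _).symm
    rw [IsIso.eq_comp_inv]
    exact CostructuredArrow.w m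

variable {X Y : Scheme.{u}} (g : X ⟶ Y)

/-- The comparison of inverse image on complexes and on derived categories. -/
noncomputable abbrev αD [PreservesFiniteLimits (EtCoh.pull g)] :
    DerivedCategory.Qh ⋙ EtBC.pullD g ⟶
      (EtCoh.pull g).mapHomotopyCategory (ComplexShape.up ℤ) ⋙ DerivedCategory.Qh :=
  (EtCoh.pull g).mapDerivedCategoryFactorsh.hom

/-- The comparison of direct image on complexes and on derived categories. -/
noncomputable abbrev βD [DCoh.HasRpushEt X g] :
    DCoh.pushEtKh X g ⟶ DerivedCategory.Qh ⋙ DCoh.RpushEt X g :=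
  (DCoh.pushEtKh X g).totalRightDerivedUnit DerivedCategory.Qh
    (HomotopyCategory.quasiIso (EtCoh.Ab X) (ComplexShape.up ℤ))

/-- Inverse image is left adjoint to direct image on homotopy categories. -/
noncomputable abbrev adjKD := KFlatLib.adjHtpy (ComplexShape.up ℤ) (EtCoh.pullPushAdj g)

/-- The derived adjunction with the formula for its counit. -/
theorem exists_adjD [PreservesFiniteLimits (EtCoh.pull g)] [DCoh.HasRpushEt X g] :
    ∃ a : EtBC.pullD g ⊣ DCoh.RpushEt X g,
      ∀ J, (EtBC.pullD g).map ((βD g).app J) ≫ a.counit.app (DerivedCategory.Qh.obj J) =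
        (αD g).app (((EtCoh.push g).mapHomotopyCategory _).obj J) ≫
          DerivedCategory.Qh.map ((adjKD g).counit.app J) := by
  let WX := HomotopyCategory.quasiIso (EtCoh.Ab X) (ComplexShape.up ℤ)
  let WY := HomotopyCategory.quasiIso (EtCoh.Ab Y) (ComplexShape.up ℤ)
  let α := αD g
  let β := βD g
  haveI := Groth.Agent.TriCat.qh_isLeftAdjoint_of_exists_resolution (S4329.Aux.exists_kInj X)
  let adjQ := Adjunction.ofIsLeftAdjoint (DerivedCategory.Qh (C := EtCoh.Ab X))
  haveI : (DerivedCategory.Qh.rightAdjoint ⋙ DCoh.pushEtKh X g).IsRightDerivedFunctor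
      (Functor.whiskerRight adjQ.unit (DCoh.pushEtKh X g)) WX :=
    TriCat.isRightDerivedFunctor_of_adjunction adjQ WX (DCoh.pushEtKh X g)
  let e₀ : DerivedCategory.Qh.rightAdjoint ⋙ DCoh.pushEtKh X g ≅ DCoh.RpushEt X g :=
    Functor.rightDerivedUnique _ _ (Functor.whiskerRight adjQ.unit (DCoh.pushEtKh X g)) β WX
  haveI : (DCoh.RpushEt X g ⋙ EtBC.pullD g).IsRightDerivedFunctor
      (Functor.whiskerRight β (EtBC.pullD g) ≫ (Functor.associator _ _ _).hom) WX := by
    haveI h := TriCat.isRightDerivedFunctor_of_adjunction adjQ WX (DCoh.pushEtKh X g ⋙ EtBC.pullD g)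
    refine (Functor.isRightDerivedFunctor_iff_of_iso _ _ WX
      ((Functor.associator _ _ _).symm ≪≫ Functor.isoWhiskerRight e₀ (EtBC.pullD g)) ?_).1 h
    ext K
    simp only [NatTrans.comp_app, Functor.whiskerLeft_app, Functor.whiskerRight_app, Iso.trans_hom,
      Iso.symm_hom, Functor.associator_inv_app, Functor.isoWhiskerRight_hom,
      Functor.associator_hom_app, Category.id_comp]
    erw [Category.comp_id]
    refine ((EtBC.pullD g).map_comp _ _).symm.trans ?_
    congr 1
    exact (Functor.rightDerivedNatTrans_app (DerivedCategory.Qh.rightAdjoint ⋙ DCoh.pushEtKh X g)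
      (DCoh.RpushEt X g) (Functor.whiskerRight adjQ.unit (DCoh.pushEtKh X g)) β WX (𝟙 _) K).trans
      (Category.id_comp _)
  haveI : (EtBC.pullD g).IsLeftDerivedFunctor α WY := isLeftDerived_of_isIso WY α
  haveI : (EtBC.pullD g ⋙ DCoh.RpushEt X g).IsLeftDerivedFunctor
      ((Functor.associator _ _ _).inv ≫ Functor.whiskerRight α (DCoh.RpushEt X g)) WY :=
    isLeftDerived_of_isIso WY _
  exact ⟨(adjKD g).derived WY WX α β, fun J => Adjunction.derivedε_fac_app (adjKD g) WX α β J⟩

end Groth.Agent.EtBCQ
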