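import Groth.Agent.EtBCQ.DerAdj
import Groth.Agent.EtBCQ.Local

/-!
# The derived base change morphism on K-injective complexes
-/

set_option autoImplicit false
set_option linter.style.haveILetI false
set_option maxHeartbeats 1000000

universe u

open CategoryTheory CategoryTheory.Limits AlgebraicGeometry

attribute [local instance] HasDerivedCategory.standard

namespace Groth.Agent.EtBCQ

set_option backward.isDefEq.respectTransparency false
set_option backward.isDefEq.respectTransparency.types false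

variable {X S X' S' : Scheme.{u}} (f : X ⟶ S) (g : S' ⟶ S) (f' : X' ⟶ S') (g' : X' ⟶ X) (w : g' ≫ f = f' ≫ g)

/-- The base change on complexes of abelian sheaves. -/
noncomputable def thetaD (I : CochainComplex (EtCoh.Ab X) ℤ) {J : CochainComplex (EtCoh.Ab X') ℤ}
    (ψ : ((EtCoh.pull g').mapHomologicalComplex (ComplexShape.up ℤ)).obj I ⟶ J) :
    ((EtCoh.pull g).mapHomologicalComplex (ComplexShape.up ℤ)).obj
        (((EtCoh.push f).mapHomologicalComplex (ComplexShape.up ℤ)).obj I) ⟶
      ((EtCoh.push f').mapHomologicalComplex (ComplexShape.up ℤ)).obj J :=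
  (NatTrans.mapHomologicalComplex (bc0Nat f g f' g' w) (ComplexShape.up ℤ)).app I ≫
    ((EtCoh.push f').mapHomologicalComplex (ComplexShape.up ℤ)).map ψ

theorem quotient_bc0 (I : CochainComplex (EtCoh.Ab X) ℤ) :
    ((EtCoh.pull g).mapHomotopyCategory (ComplexShape.up ℤ)).map
        ((EtBC.pushToPushPullH f g f' g' w).app ((HomotopyCategory.quotient _ _).obj I)) ≫
      (adjKD g).counit.app (((EtCoh.push f').mapHomotopyCategory _).obj
        (((EtCoh.pull g').mapHomotopyCategory _).obj ((HomotopyCategory.quotient _ _).obj I))) =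
      (HomotopyCategory.quotient (EtCoh.Ab S') (ComplexShape.up ℤ)).map
        ((NatTrans.mapHomologicalComplex (bc0Nat f g f' g' w) (ComplexShape.up ℤ)).app I) := by
  show ((EtCoh.pull g).mapHomotopyCategory (ComplexShape.up ℤ)).map
      ((HomotopyCategory.quotient _ _).map
          ((NatTrans.mapHomologicalComplex (EtBC.pushToPushPull f g f' g' w) (ComplexShape.up ℤ)).app I) ≫
        (HomotopyCategory.quotient _ _).map _ ≫ (HomotopyCategory.quotient _ _).map _) ≫ _ = _
  simp only [Functor.map_comp, Category.assoc]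
  show (HomotopyCategory.quotient _ _).map _ ≫ (HomotopyCategory.quotient _ _).map _ ≫
    (HomotopyCategory.quotient _ _).map _ ≫ (HomotopyCategory.quotient _ _).map _ = _
  simp only [← Functor.map_comp]
  refine congrArg _ (HomologicalComplex.hom_ext _ _ fun n => ?_)
  simp [EtBC.pushToPushPull, bc0Nat, EtCoh.baseChange0, Adjunction.homEquiv_counit]
  repeat (first | erw [CategoryTheory.Functor.map_id] | erw [Category.id_comp])

section Crit

variable [PreservesFiniteLimits (EtCoh.pull g)] [PreservesFiniteLimits (EtCoh.pull g')]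
  [DCoh.HasRpushEt X f] [DCoh.HasRpushEt X' f'] [DCoh.HasRpushEt S' g] (adj : EtBC.pullD g ⊣ DCoh.RpushEt S' g)

/-- The base change morphism as a natural transformation. -/
noncomputable def bcMapNat :
    DCoh.RpushEt X f ⋙ EtBC.pullD g ⟶ EtBC.pullD g' ⋙ DCoh.RpushEt X' f' :=
  Functor.whiskerRight (EtBC.bcAdj f g f' g' w) (EtBC.pullD g) ≫ (Functor.associator _ _ _).hom ≫
    Functor.whiskerLeft (EtBC.pullD g') ((Functor.associator _ _ _).hom ≫
      Functor.whiskerLeft (DCoh.RpushEt X' f') adj.counit ≫ (DCoh.RpushEt X' f').rightUnitor.hom)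

theorem bcMapNat_app (K : DCoh.DEt X) : (bcMapNat f g f' g' w adj).app K = EtBC.bcMap f g f' g' w adj K := by
  show (EtBC.pullD g).map ((EtBC.bcAdj f g f' g' w).app K) ≫ 𝟙 _ ≫ 𝟙 _ ≫ adj.counit.app _ ≫ 𝟙 _ = _
  simp only [Category.id_comp, Category.comp_id]
  exact (Adjunction.homEquiv_counit _ _ _ _).symm

/-- Whether the base change morphism is an isomorphism does not depend on the adjunction. -/
theorem isIso_bcMap_congr (adj' : EtBC.pullD g ⊣ DCoh.RpushEt S' g) (K : DCoh.DEt X) :
    IsIso (EtBC.bcMap f g f' g' w adj K) ↔ IsIso (EtBC.bcMap f g f' g' w adj' K) := by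
  let φ := (EtBC.bcAdj f g f' g' w).app K
  let e := (Adjunction.leftAdjointUniq adj' adj).app ((DCoh.RpushEt X f).obj K)
  have h : e.hom ≫ EtBC.bcMap f g f' g' w adj K = EtBC.bcMap f g f' g' w adj' K := by
    simp only [EtBC.bcMap, Adjunction.homEquiv_counit]
    refine (Category.assoc _ _ _).symm.trans ((congrArg (· ≫ _)
      ((Adjunction.leftAdjointUniq adj' adj).hom.naturality φ).symm).trans ((Category.assoc _ _ _).trans ?_))
    exact congrArg (_ ≫ ·) (Adjunction.leftAdjointUniq_hom_app_counit adj' adj _)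
  rw [← h]
  exact ⟨fun _ => inferInstance, fun _ => IsIso.of_isIso_comp_left e.hom _⟩

theorem isIso_bcMap_iff_of_iso {K K' : DCoh.DEt X} (e : K ≅ K') :
    IsIso (EtBC.bcMap f g f' g' w adj K) ↔ IsIso (EtBC.bcMap f g f' g' w adj K') := by
  rw [← bcMapNat_app, ← bcMapNat_app]
  exact NatTrans.isIso_app_iff_of_iso _ e

/-- The criterion on K-injective complexes. -/
theorem isIso_bcMap_iff (I : CochainComplex (EtCoh.Ab X) ℤ) [I.IsKInjective]
    (J : CochainComplex (EtCoh.Ab X') ℤ) [J.IsKInjective]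
    (ψ : ((EtCoh.pull g').mapHomologicalComplex (ComplexShape.up ℤ)).obj I ⟶ J) [QuasiIso ψ] :
    IsIso (EtBC.bcMap f g f' g' w adj (DerivedCategory.Qh.obj ((HomotopyCategory.quotient _ _).obj I))) ↔
      QuasiIso (thetaD f g f' g' w I ψ) := by
  obtain ⟨a, ha⟩ := exists_adjD g
  rw [isIso_bcMap_congr f g f' g' w adj a]
  let qX := HomotopyCategory.quotient (EtCoh.Ab X) (ComplexShape.up ℤ)
  let qX' := HomotopyCategory.quotient (EtCoh.Ab X') (ComplexShape.up ℤ)
  let qS' := HomotopyCategory.quotient (EtCoh.Ab S') (ComplexShape.up ℤ)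
  let T := qX.obj I
  let P := ((EtCoh.pull g').mapHomotopyCategory (ComplexShape.up ℤ)).obj T
  let M := ((EtCoh.push f').mapHomotopyCategory (ComplexShape.up ℤ)).obj P
  haveI : IsIso ((βD f).app T) := S4329.Aux.isIso_unit f I
  haveI : IsIso ((βD f').app (qX'.obj J)) := S4329.Aux.isIso_unit f' J
  have hfac : (βD f).app T ≫ (EtBC.bcAdj f g f' g' w).app (DerivedCategory.Qh.obj T) =
      (EtBC.bcUnit f g f' g' w).app T :=
    (DCoh.RpushEt X f).rightDerived_fac_app (βD f) (HomotopyCategory.quasiIso (EtCoh.Ab X) (ComplexShape.up ℤ))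
      _ (EtBC.bcUnit f g f' g' w) T
  let eF := (EtCoh.pull g').mapDerivedCategoryFactorsh.app T
  let b : M ⟶ M := 𝟙 M
  have hU : (EtBC.bcUnit f g f' g' w).app T =
      DerivedCategory.Qh.map ((EtBC.pushToPushPullH f g f' g' w).app T) ≫ (βD g).app M ≫
        (DCoh.RpushEt S' g).map ((βD f').app P ≫ (DCoh.RpushEt X' f').map eF.inv) := by
    simp [EtBC.bcUnit, eF, M, P, T]
  have h1 : (EtBC.pullD g).map ((βD f).app T) ≫ EtBC.bcMap f g f' g' w a (DerivedCategory.Qh.obj T) =
      (αD g).app (((EtCoh.push f).mapHomotopyCategory _).obj T) ≫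
        DerivedCategory.Qh.map (qS'.map ((NatTrans.mapHomologicalComplex (bc0Nat f g f' g' w) (ComplexShape.up ℤ)).app I)) ≫
          (βD f').app P ≫ (DCoh.RpushEt X' f').map eF.inv := by
    refine ((a.homEquiv_naturality_left_symm _ _).symm.trans (congrArg _ (hfac.trans (hU.trans
      (Category.assoc _ _ _).symm)))).trans ?_
    refine (a.homEquiv_naturality_right_symm _ _).trans ?_
    refine (congrArg (· ≫ _) ((a.homEquiv_counit _ _ _).trans ((congrArg (· ≫ _) ((EtBC.pullD g).map_comp _ _)).trans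
      ((Category.assoc _ _ _).trans (congrArg (_ ≫ ·) (ha M)))))).trans ?_
    rw [← quotient_bc0 f g f' g' w I, Functor.map_comp]
    simp only [Category.assoc]
    exact (Category.assoc _ _ _).symm.trans
      ((congrArg (· ≫ _) ((αD g).naturality ((EtBC.pushToPushPullH f g f' g' w).app T))).trans (Category.assoc _ _ _))
  have h2 : (βD f').app P ≫ (DCoh.RpushEt X' f').map (DerivedCategory.Qh.map (qX'.map ψ)) =
      DerivedCategory.Qh.map (qS'.map (((EtCoh.push f').mapHomologicalComplex _).map ψ)) ≫ (βD f').app (qX'.obj J) :=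
    ((βD f').naturality (qX'.map ψ)).symm
  haveI : IsIso (DerivedCategory.Qh.map (qX'.map ψ)) := by
    haveI : IsIso (DerivedCategory.Q.map ψ) := (DerivedCategory.isIso_Q_map_iff_quasiIso (φ := ψ)).2 inferInstance
    exact (NatIso.isIso_map_iff (DerivedCategory.quotientCompQhIso (EtCoh.Ab X')) ψ).2 this
  let r := (DCoh.RpushEt X' f').map (eF.hom ≫ DerivedCategory.Qh.map (qX'.map ψ))
  haveI : IsIso (eF.hom ≫ DerivedCategory.Qh.map (qX'.map ψ)) := inferInstance
  have h3 : ((EtBC.pullD g).map ((βD f).app T) ≫ EtBC.bcMap f g f' g' w a (DerivedCategory.Qh.obj T)) ≫ r =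
      (αD g).app (((EtCoh.push f).mapHomotopyCategory _).obj T) ≫
        DerivedCategory.Qh.map (qS'.map (thetaD f g f' g' w I ψ)) ≫ (βD f').app (qX'.obj J) := by
    have e : (DCoh.RpushEt X' f').map eF.inv ≫ r = (DCoh.RpushEt X' f').map (DerivedCategory.Qh.map (qX'.map ψ)) :=
      ((DCoh.RpushEt X' f').map_comp _ _).symm.trans (congrArg _ (eF.inv_hom_id_assoc _))
    rw [h1, thetaD, Functor.map_comp, Functor.map_comp]
    simp only [Category.assoc]
    refine congrArg (_ ≫ ·) (congrArg (_ ≫ ·) ?_)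
    exact (congrArg (_ ≫ ·) e).trans h2
  have h4 : QuasiIso (thetaD f g f' g' w I ψ) ↔
      IsIso (DerivedCategory.Qh.map (qS'.map (thetaD f g f' g' w I ψ))) :=
    (DerivedCategory.isIso_Q_map_iff_quasiIso (φ := thetaD f g f' g' w I ψ)).symm.trans
      (NatIso.isIso_map_iff (DerivedCategory.quotientCompQhIso (EtCoh.Ab S')) _).symm
  rw [h4]
  constructor
  · intro _
    haveI : IsIso ((αD g).app (((EtCoh.push f).mapHomotopyCategory _).obj T) ≫
        DerivedCategory.Qh.map (qS'.map (thetaD f g f' g' w I ψ)) ≫ (βD f').app (qX'.obj J)) := by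
      rw [← h3]; infer_instance
    haveI := IsIso.of_isIso_comp_left ((αD g).app (((EtCoh.push f).mapHomotopyCategory _).obj T))
      (DerivedCategory.Qh.map (qS'.map (thetaD f g f' g' w I ψ)) ≫ (βD f').app (qX'.obj J))
    exact IsIso.of_isIso_comp_right _ ((βD f').app (qX'.obj J))
  · intro _
    haveI : IsIso (((EtBC.pullD g).map ((βD f).app T) ≫ EtBC.bcMap f g f' g' w a (DerivedCategory.Qh.obj T)) ≫ r) := by
      rw [h3]; infer_instance
    haveI := IsIso.of_isIso_comp_right ((EtBC.pullD g).map ((βD f).app T) ≫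
      EtBC.bcMap f g f' g' w a (DerivedCategory.Qh.obj T)) r
    exact IsIso.of_isIso_comp_left ((EtBC.pullD g).map ((βD f).app T)) _

end Crit

end Groth.Agent.EtBCQ
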