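import Groth.Agent.EtBCQ.Local

/-!
# Base change in every degree for a tower of squares
-/

set_option autoImplicit false
set_option linter.style.haveILetI false
set_option maxHeartbeats 1000000

universe u

open CategoryTheory CategoryTheory.Limits AlgebraicGeometry HomologicalComplex Opposite

namespace Groth.Agent.EtBCQ

set_option backward.isDefEq.respectTransparency false
set_option backward.isDefEq.respectTransparency.types false

/-- Base change along the identity is the identity. -/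
noncomputable def bcId (S : Scheme.{u}) : EtCoh.bc (𝟙 S) ≅ 𝟭 S.Etale :=
  NatIso.ofComponents (fun W => MorphismProperty.Over.isoMk (asIso (pullback.fst W.hom (𝟙 S)))
      (pullback.condition.trans (Category.comp_id _)))
    fun m => MorphismProperty.Over.Hom.ext (bc_map_fst (𝟙 S) m)

/-- Inverse image along the identity is the identity. -/
noncomputable def pullId (S : Scheme.{u}) : 𝟭 (EtCoh.Ab S) ≅ EtCoh.pull (𝟙 S) :=
  Adjunction.leftAdjointUniq Adjunction.id ((EtCoh.pullPushAdj (𝟙 S)).ofNatIsoRight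
    (Functor.sheafPushforwardContinuousId' (bcId S) AddCommGrpCat.{u + 1} S.smallEtaleTopology))

variable {X S Y T W Z : Scheme.{u}} (f : X ⟶ S) (g : T ⟶ S) (h : Y ⟶ X) (e : Y ⟶ T) (w : e ≫ g = h ≫ f)
  (i : W ⟶ X) (j : Z ⟶ W) (k : Z ⟶ Y) (w' : k ≫ h = j ≫ i) (w'' : (k ≫ e) ≫ g = j ≫ i ≫ f)

/-- Base change in each degree for a tower. -/
theorem isIso_bcQ_vcomp [PreservesFiniteLimits (EtCoh.pull e)] [PreservesFiniteLimits (EtCoh.pull k)]
    [PreservesFiniteLimits (EtCoh.pull (k ≫ e))] (F : EtCoh.Ab T) (n : ℕ)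
    (h1 : IsIso (EtBC.bcQ g f h e w n F)) (h2 : IsIso (EtBC.bcQ h i j k w' n ((EtCoh.pull e).obj F))) :
    IsIso (EtBC.bcQ g (i ≫ f) j (k ≫ e) w'' n F) := by
  haveI := EtFound.pull_preservesFiniteLimits f
  haveI := EtFound.pull_preservesFiniteLimits i
  haveI := EtFound.pull_preservesFiniteLimits (i ≫ f)
  haveI := EtFound.pull_preservesFiniteLimits (𝟙 S)
  haveI := EtFound.pull_preservesFiniteLimits (𝟙 T)
  let I := injectiveResolution F
  let J := injectiveResolution ((EtCoh.pull e).obj F)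
  let K := injectiveResolution ((EtCoh.pull k).obj ((EtCoh.pull e).obj F))
  obtain ⟨ψ₁, hψ₁⟩ := exists_psi e I J
  obtain ⟨ψ₂, hψ₂⟩ := exists_psi k J K
  have q₁ := (isIso_bcQ_iff g f h e w I J ψ₁ hψ₁ n).1 h1
  have q₂ := (isIso_bcQ_iff h i j k w' J K ψ₂ hψ₂ n).1 h2
  have wa : (i ≫ f) ≫ 𝟙 S = i ≫ f := Category.comp_id _
  have wT : 𝟙 T ≫ g = g ≫ 𝟙 S := by simp
  have wqe : k ≫ e = (k ≫ e) ≫ 𝟙 T := (Category.comp_id _).symm
  let τ := sqPullIso e (𝟙 T) (k ≫ e) k wqe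
  let I' := pullResEt (𝟙 T) ((pullId T).hom.app F) I
  let d : (EtCoh.pull (k ≫ e)).obj F ⟶ (EtCoh.pull k).obj ((EtCoh.pull e).obj F) :=
    (EtCoh.pull (k ≫ e)).map ((pullId T).hom.app F) ≫ τ.hom.app F
  let J' : InjectiveResolution ((EtCoh.pull (k ≫ e)).obj F) :=
    { cocomplex := K.cocomplex
      injective := K.injective
      hasHomology := inferInstance
      ι := (CochainComplex.single₀ _).map d ≫ K.ι
      quasiIso := inferInstance }
  let ψ'' : ((EtCoh.pull (k ≫ e)).mapHomologicalComplex (ComplexShape.up ℕ)).obj I'.cocomplex ⟶ J'.cocomplex :=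
    (NatTrans.mapHomologicalComplex τ.hom (ComplexShape.up ℕ)).app I.cocomplex ≫
      ((EtCoh.pull k).mapHomologicalComplex _).map ψ₁ ≫ ψ₂
  have hψ'' : (EtCoh.pull (k ≫ e)).map (I'.ι.f 0) ≫ ψ''.f 0 = J'.ι.f 0 := by
    have hJ : J'.ι.f 0 = d ≫ K.ι.f 0 := by
      show ((CochainComplex.single₀ _).map d).f 0 ≫ K.ι.f 0 = _
      rw [CochainComplex.single₀_map_f_zero]
    rw [hJ, pullResEt_ι]
    show (EtCoh.pull (k ≫ e)).map ((pullId T).hom.app F ≫ (EtCoh.pull (𝟙 T)).map (I.ι.f 0)) ≫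
      τ.hom.app _ ≫ (EtCoh.pull k).map (ψ₁.f 0) ≫ ψ₂.f 0 =
        ((EtCoh.pull (k ≫ e)).map ((pullId T).hom.app F) ≫ τ.hom.app F) ≫ K.ι.f 0
    rw [← hψ₂, ← hψ₁, Functor.map_comp, Functor.map_comp, Category.assoc, Category.assoc, Category.assoc]
    refine congrArg (_ ≫ ·) ?_
    exact (Category.assoc _ _ _).symm.trans
      ((congrArg (· ≫ _) (τ.hom.naturality (I.ι.f 0))).trans (Category.assoc _ _ _))
  refine (isIso_bcQ_iff g (i ≫ f) j (k ≫ e) w'' I' J' ψ'' hψ'' n).2 ?_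
  have cI : IsPullback (𝟙 T) g g (𝟙 S) := IsPullback.of_horiz_isIso ⟨wT⟩
  let α₁ := (NatTrans.mapHomologicalComplex (sqPullIso (𝟙 S) f i (i ≫ f) wa).hom (ComplexShape.up ℕ)).app
    (((EtCoh.push g).mapHomologicalComplex (ComplexShape.up ℕ)).obj I.cocomplex)
  let α₂ := ((EtCoh.pull (i ≫ f)).mapHomologicalComplex (ComplexShape.up ℕ)).map
    ((NatTrans.mapHomologicalComplex (bc0Nat g (𝟙 S) g (𝟙 T) wT) (ComplexShape.up ℕ)).app I.cocomplex)
  have key : ((EtCoh.pull i).mapHomologicalComplex _).map (theta g f h e w I J ψ₁) ≫ theta h i j k w' J K ψ₂ =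
      α₁ ≫ α₂ ≫ theta g (i ≫ f) j (k ≫ e) w'' I' J' ψ'' := by
    refine HomologicalComplex.hom_ext _ _ fun m => ?_
    show (EtCoh.pull i).map (EtCoh.baseChange0 g f h e w (I.cocomplex.X m) ≫ (EtCoh.push h).map (ψ₁.f m)) ≫
        EtCoh.baseChange0 h i j k w' (J.cocomplex.X m) ≫ (EtCoh.push j).map (ψ₂.f m) =
      sqPull (𝟙 S) f i (i ≫ f) wa ((EtCoh.push g).obj (I.cocomplex.X m)) ≫
        (EtCoh.pull (i ≫ f)).map (EtCoh.baseChange0 g (𝟙 S) g (𝟙 T) wT (I.cocomplex.X m)) ≫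
          EtCoh.baseChange0 g (i ≫ f) j (k ≫ e) w'' ((EtCoh.pull (𝟙 T)).obj (I.cocomplex.X m)) ≫
            (EtCoh.push j).map (sqPull e (𝟙 T) (k ≫ e) k wqe (I.cocomplex.X m) ≫
              (EtCoh.pull k).map (ψ₁.f m) ≫ ψ₂.f m)
    rw [Functor.map_comp, Category.assoc, ← Category.assoc ((EtCoh.pull i).map ((EtCoh.push h).map _)),
      baseChange0_naturality, Category.assoc, ← Category.assoc,
      baseChange0_paste f g h e w i (𝟙 S) (i ≫ f) wa g (𝟙 T) wT j (k ≫ e) w'' k w' wqe, Functor.map_comp,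
      Functor.map_comp]
    simp only [Category.assoc]
  haveI : IsIso α₁ := by
    haveI : ∀ m, IsIso (α₁.f m) := fun m =>
      inferInstanceAs (IsIso ((sqPullIso (𝟙 S) f i (i ≫ f) wa).hom.app ((EtCoh.push g).obj (I.cocomplex.X m))))
    exact HomologicalComplex.Hom.isIso_of_components _
  haveI : IsIso ((NatTrans.mapHomologicalComplex (bc0Nat g (𝟙 S) g (𝟙 T) wT) (ComplexShape.up ℕ)).app I.cocomplex) := by
    haveI : ∀ m, IsIso (((NatTrans.mapHomologicalComplex (bc0Nat g (𝟙 S) g (𝟙 T) wT) (ComplexShape.up ℕ)).app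
      I.cocomplex).f m) := fun m => isIso_baseChange0_of_etale g (𝟙 S) g (𝟙 T) cI (I.cocomplex.X m)
    exact HomologicalComplex.Hom.isIso_of_components _
  haveI : IsIso α₂ := inferInstance
  haveI := q₁
  haveI := q₂
  have h' : QuasiIsoAt (α₁ ≫ α₂ ≫ theta g (i ≫ f) j (k ≫ e) w'' I' J' ψ'') n := by
    rw [← key]; infer_instance
  exact (quasiIsoAt_iff_comp_left α₂ _ n).1 ((quasiIsoAt_iff_comp_left α₁ _ n).1 h')

end Groth.Agent.EtBCQ
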