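import Groth.Agent.EtBCQ.Derived
import Groth.Agent.EtBCQ.Vcomp

/-!
# The derived base change morphism: etale localisation and towers
-/

set_option autoImplicit false
set_option linter.style.haveILetI false
set_option maxHeartbeats 1000000

universe u

open CategoryTheory CategoryTheory.Limits AlgebraicGeometry

attribute [local instance] HasDerivedCategory.standard

namespace Groth.Agent.EtBCQ

set_option backward.isDefEq.respectTransparency false
set_option backward.isDefEq.respectTransparency.types false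

theorem isIso_nat {A B : Type*} [Category A] [Abelian A] [Category B] [Abelian B] {F G : A ⥤ B} [F.Additive]
    [G.Additive] (α : F ⟶ G) {ι : Type*} (c : ComplexShape ι) (K : HomologicalComplex A c)
    (h : ∀ n, IsIso (α.app (K.X n))) : IsIso ((NatTrans.mapHomologicalComplex α c).app K) := by
  haveI : ∀ n, IsIso (((NatTrans.mapHomologicalComplex α c).app K).f n) := h
  exact HomologicalComplex.Hom.isIso_of_components _

theorem isKInjective_pull_etale {T Ti : Scheme.{u}} (t : Ti ⟶ T) [Etale t] (I : CochainComplex (EtCoh.Ab T) ℤ)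
    [I.IsKInjective] :
    CochainComplex.IsKInjective (((EtCoh.pull t).mapHomologicalComplex (ComplexShape.up ℤ)).obj I) := by
  haveI := EtFound.jCont t
  haveI := EtFound.extZero_preservesFiniteLimits t
  let a := (EtShriek.extZeroAdj t).ofNatIsoRight (EtContLib.etaleRestrIso t)
  haveI : PreservesColimitsOfSize.{0, 0} (EtShriek.extZero t) := a.leftAdjoint_preservesColimits
  haveI : PreservesFiniteColimits (EtShriek.extZero t) := PreservesColimitsOfSize.preservesFiniteColimits _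
  haveI : (EtShriek.extZero t).Additive := a.left_adjoint_additive
  exact SiteBase.isKInjective_map a I

theorem exists_qh_iso {T : Scheme.{u}} (K : DCoh.DEt T) : ∃ I : CochainComplex (EtCoh.Ab T) ℤ, I.IsKInjective ∧
    Nonempty (DerivedCategory.Qh.obj ((HomotopyCategory.quotient _ _).obj I) ≅ K) := by
  obtain ⟨I, q, hI, hq⟩ := S4329.Aux.exists_kInj T ((DerivedCategory.Q (C := EtCoh.Ab T)).objPreimage K)
  haveI := hq
  exact ⟨I, hI, ⟨(DerivedCategory.quotientCompQhIso _).app I ≪≫ (asIso (DerivedCategory.Q.map q)).symm ≪≫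
    (DerivedCategory.Q (C := EtCoh.Ab T)).objObjPreimageIso K⟩⟩

variable {X S Y T : Scheme.{u}} (f : X ⟶ S) (g : T ⟶ S) (h : Y ⟶ X) (e : Y ⟶ T)

theorem quasiIso_pull_thetaD {U V Ti Yi : Scheme.{u}} (c : IsPullback e h g f) (u : U ⟶ X) [Etale u] (v : V ⟶ S) [Etale v]
    (a : U ⟶ V) (wa : a ≫ v = u ≫ f) (gi : Ti ⟶ V) (ti : Ti ⟶ T) (cT : IsPullback ti gi g v) (hi : Yi ⟶ U)
    (ei : Yi ⟶ Ti) (cY : IsPullback ei hi gi a) (q : Yi ⟶ Y) (cq : IsPullback q hi h u) (wqe : q ≫ e = ei ≫ ti)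
    [PreservesFiniteLimits (EtCoh.pull ei)] [PreservesFiniteLimits (EtCoh.pull ti)] [PreservesFiniteLimits (EtCoh.pull a)]
    [DCoh.HasRpushEt Ti gi] [DCoh.HasRpushEt Yi hi] [DCoh.HasRpushEt U a]
    (adji : EtBC.pullD a ⊣ DCoh.RpushEt U a)
    (I : CochainComplex (EtCoh.Ab T) ℤ) [I.IsKInjective] (J : CochainComplex (EtCoh.Ab Y) ℤ) [J.IsKInjective]
    (ψ : ((EtCoh.pull e).mapHomologicalComplex (ComplexShape.up ℤ)).obj I ⟶ J) [QuasiIso ψ]
    (hloc : IsIso (EtBC.bcMap gi a hi ei cY.w adji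
      ((EtBC.pullD ti).obj (DerivedCategory.Qh.obj ((HomotopyCategory.quotient _ _).obj I))))) :
    QuasiIso (((EtCoh.pull u).mapHomologicalComplex (ComplexShape.up ℤ)).map (thetaD g f h e c.w I ψ)) := by
  haveI := EtFound.pull_preservesFiniteLimits q
  haveI : Etale ti := MorphismProperty.of_isPullback (P := @Etale) cT.flip ‹Etale v›
  haveI : Etale q := MorphismProperty.of_isPullback (P := @Etale) cq.flip ‹Etale u›
  let c' := ComplexShape.up ℤ
  let I' := ((EtCoh.pull ti).mapHomologicalComplex c').obj I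
  let J' := ((EtCoh.pull q).mapHomologicalComplex c').obj J
  haveI : CochainComplex.IsKInjective I' := isKInjective_pull_etale ti I
  haveI : CochainComplex.IsKInjective J' := isKInjective_pull_etale q J
  haveI := isIso_nat (sqPullIso e ti ei q wqe).hom c' I fun _ => inferInstance
  let ψ' : ((EtCoh.pull ei).mapHomologicalComplex c').obj I' ⟶ J' :=
    (NatTrans.mapHomologicalComplex (sqPullIso e ti ei q wqe).hom c').app I ≫
      ((EtCoh.pull q).mapHomologicalComplex c').map ψ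
  haveI : QuasiIso (((EtCoh.pull q).mapHomologicalComplex c').map ψ) := inferInstance
  haveI : QuasiIso ψ' := quasiIso_comp _ _
  have h' : QuasiIso (thetaD gi a hi ei cY.w I' ψ') := (isIso_bcMap_iff gi a hi ei cY.w adji I' J' ψ').1
    ((isIso_bcMap_iff_of_iso gi a hi ei cY.w adji ((EtCoh.pull ti).mapDerivedCategoryFactorsh.app _)).1 hloc)
  let α₁ := (NatTrans.mapHomologicalComplex (sqPullIso v f u a wa).hom c').app
    (((EtCoh.push g).mapHomologicalComplex c').obj I)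
  let α₂ := ((EtCoh.pull a).mapHomologicalComplex c').map
    ((NatTrans.mapHomologicalComplex (bc0Nat g v gi ti cT.w) c').app I)
  let β := (NatTrans.mapHomologicalComplex (bc0Nat h u hi q cq.w) c').app J
  have key : ((EtCoh.pull u).mapHomologicalComplex c').map (thetaD g f h e c.w I ψ) ≫ β =
      α₁ ≫ α₂ ≫ thetaD gi a hi ei cY.w I' ψ' := by
    refine HomologicalComplex.hom_ext _ _ fun j => ?_
    show (EtCoh.pull u).map (EtCoh.baseChange0 g f h e c.w (I.X j) ≫ (EtCoh.push h).map (ψ.f j)) ≫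
        EtCoh.baseChange0 h u hi q cq.w (J.X j) =
      sqPull v f u a wa ((EtCoh.push g).obj (I.X j)) ≫
        (EtCoh.pull a).map (EtCoh.baseChange0 g v gi ti cT.w (I.X j)) ≫
          EtCoh.baseChange0 gi a hi ei cY.w ((EtCoh.pull ti).obj (I.X j)) ≫
            (EtCoh.push hi).map (sqPull e ti ei q wqe (I.X j) ≫ (EtCoh.pull q).map (ψ.f j))
    rw [Functor.map_comp, Category.assoc, baseChange0_naturality, ← Category.assoc,
      baseChange0_paste f g h e c.w u v a wa gi ti cT.w hi ei cY.w q cq.w wqe, Functor.map_comp]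
    simp only [Category.assoc]
  haveI : IsIso α₁ := isIso_nat _ c' _ fun _ => inferInstance
  haveI := isIso_nat (bc0Nat g v gi ti cT.w) c' I fun n => isIso_baseChange0_of_etale g v gi ti cT (I.X n)
  haveI : IsIso α₂ := inferInstance
  haveI : IsIso β := isIso_nat _ c' _ fun n => isIso_baseChange0_of_etale h u hi q cq (J.X n)
  have h'' : QuasiIso (((EtCoh.pull u).mapHomologicalComplex c').map (thetaD g f h e c.w I ψ) ≫ β) := by
    rw [key]
    haveI := h'
    infer_instance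
  exact (quasiIso_iff_comp_right _ β).1 h''

theorem isIso_bcMap_of_pieces (c : IsPullback e h g f) [PreservesFiniteLimits (EtCoh.pull e)]
    [PreservesFiniteLimits (EtCoh.pull f)] [DCoh.HasRpushEt T g] [DCoh.HasRpushEt Y h] [DCoh.HasRpushEt X f]
    (adj : EtBC.pullD f ⊣ DCoh.RpushEt X f) (K : DCoh.DEt T)
    {ι : Type u} (Us : ι → X.Etale) (hU : EtCoh.Covers Us) (Vs : ι → S.Etale)
    (as : ∀ i, (Us i).left ⟶ (Vs i).left) (ha : ∀ i, as i ≫ (Vs i).hom = (Us i).hom ≫ f)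
    (Tis Yis : ι → Scheme.{u}) (gis : ∀ i, Tis i ⟶ (Vs i).left) (tis : ∀ i, Tis i ⟶ T)
    (cTs : ∀ i, IsPullback (tis i) (gis i) g (Vs i).hom)
    (his : ∀ i, Yis i ⟶ (Us i).left) (eis : ∀ i, Yis i ⟶ Tis i)
    (cYs : ∀ i, IsPullback (eis i) (his i) (gis i) (as i))
    [∀ i, PreservesFiniteLimits (EtCoh.pull (eis i))] [∀ i, PreservesFiniteLimits (EtCoh.pull (as i))]
    [∀ i, PreservesFiniteLimits (EtCoh.pull (tis i))]
    [∀ i, DCoh.HasRpushEt (Tis i) (gis i)] [∀ i, DCoh.HasRpushEt (Yis i) (his i)]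
    [hR : ∀ i, DCoh.HasRpushEt (Us i).left (as i)]
    (adji : ∀ i, EtBC.pullD (as i) ⊣ DCoh.RpushEt (Us i).left (as i))
    (hloc : ∀ i, IsIso (EtBC.bcMap (gis i) (as i) (his i) (eis i) (cYs i).w (adji i) ((EtBC.pullD (tis i)).obj K))) :
    IsIso (EtBC.bcMap g f h e c.w adj K) := by
  obtain ⟨I, hI, ⟨eK⟩⟩ := exists_qh_iso K
  haveI := hI
  obtain ⟨J, ψ, hJ, hψ⟩ := S4329.Aux.exists_kInj Y (((EtCoh.pull e).mapHomologicalComplex (ComplexShape.up ℤ)).obj I)
  haveI := hJ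
  haveI := hψ
  refine (isIso_bcMap_iff_of_iso g f h e c.w adj eK).1 ((isIso_bcMap_iff g f h e c.w adj I J ψ).2 ⟨fun n => ?_⟩)
  refine (quasiIsoAt_iff_isIso_homologyMap _ _).2 (isIso_of_isIso_pull Us hU _ fun i => ?_)
  haveI := EtFound.pull_preservesFiniteLimits (Us i).hom
  haveI : Etale (Us i).hom := (Us i).prop
  haveI : Etale (Vs i).hom := (Vs i).prop
  have hbig : IsPullback (eis i ≫ tis i) (his i) g ((Us i).hom ≫ f) := by
    rw [← ha i]
    exact (cYs i).paste_horiz (cTs i)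
  let q : Yis i ⟶ Y := c.lift (eis i ≫ tis i) (his i ≫ (Us i).hom) (by rw [hbig.w, Category.assoc])
  have hqe : q ≫ e = eis i ≫ tis i := c.lift_fst _ _ _
  have sqY : IsPullback q (his i) h (Us i).hom :=
    IsPullback.of_right (by rw [hqe]; exact hbig) (c.lift_snd _ _ _) c
  haveI := hR i
  have hq := quasiIso_pull_thetaD (U := (Us i).left) (V := (Vs i).left) f g h e c (Us i).hom (Vs i).hom (as i) (ha i) (gis i) (tis i) (cTs i) (his i) (eis i)
      (cYs i) q sqY hqe (adji i) I J ψ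
      ((isIso_bcMap_iff_of_iso (gis i) (as i) (his i) (eis i) (cYs i).w (adji i)
        ((EtBC.pullD (tis i)).mapIso eK)).2 (hloc i))
  exact (quasiIsoAt_map_iff (EtCoh.pull (Us i).hom) _ n).1 (hq.quasiIsoAt n)

theorem isIso_bcMap_vcomp {W Z : Scheme.{u}} (w : e ≫ g = h ≫ f) (i : W ⟶ X) (j : Z ⟶ W) (k : Z ⟶ Y)
    (w' : k ≫ h = j ≫ i) (w'' : (k ≫ e) ≫ g = j ≫ i ≫ f)
    [PreservesFiniteLimits (EtCoh.pull f)] [PreservesFiniteLimits (EtCoh.pull i)]
    [PreservesFiniteLimits (EtCoh.pull (i ≫ f))] [PreservesFiniteLimits (EtCoh.pull e)]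
    [PreservesFiniteLimits (EtCoh.pull k)] [PreservesFiniteLimits (EtCoh.pull (k ≫ e))]
    [DCoh.HasRpushEt T g] [DCoh.HasRpushEt Y h] [DCoh.HasRpushEt Z j] [DCoh.HasRpushEt X f]
    [DCoh.HasRpushEt W i] [DCoh.HasRpushEt W (i ≫ f)]
    (adj₁ : EtBC.pullD f ⊣ DCoh.RpushEt X f) (adj₂ : EtBC.pullD i ⊣ DCoh.RpushEt W i)
    (adj₃ : EtBC.pullD (i ≫ f) ⊣ DCoh.RpushEt W (i ≫ f)) (K : DCoh.DEt T)
    (h1 : IsIso (EtBC.bcMap g f h e w adj₁ K))
    (h2 : IsIso (EtBC.bcMap h i j k w' adj₂ ((EtBC.pullD e).obj K))) :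
    IsIso (EtBC.bcMap g (i ≫ f) j (k ≫ e) w'' adj₃ K) := by
  haveI := EtFound.pull_preservesFiniteLimits (𝟙 S)
  haveI := EtFound.pull_preservesFiniteLimits (𝟙 T)
  let c' := ComplexShape.up ℤ
  obtain ⟨I, hI, ⟨eK⟩⟩ := exists_qh_iso K
  haveI := hI
  obtain ⟨J, ψ₁, hJ, hψ₁⟩ := S4329.Aux.exists_kInj Y (((EtCoh.pull e).mapHomologicalComplex c').obj I)
  haveI := hJ
  haveI := hψ₁
  obtain ⟨L, ψ₂, hL, hψ₂⟩ := S4329.Aux.exists_kInj Z (((EtCoh.pull k).mapHomologicalComplex c').obj J)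
  haveI := hL
  haveI := hψ₂
  have q₁ := (isIso_bcMap_iff g f h e w adj₁ I J ψ₁).1 ((isIso_bcMap_iff_of_iso g f h e w adj₁ eK).2 h1)
  haveI : IsIso (DerivedCategory.Qh.map ((HomotopyCategory.quotient _ c').map ψ₁)) :=
    (NatIso.isIso_map_iff (DerivedCategory.quotientCompQhIso (EtCoh.Ab Y)) ψ₁).2
      ((DerivedCategory.isIso_Q_map_iff_quasiIso (φ := ψ₁)).2 hψ₁)
  let eJ : (EtBC.pullD e).obj (DerivedCategory.Qh.obj ((HomotopyCategory.quotient _ c').obj I)) ≅
      DerivedCategory.Qh.obj ((HomotopyCategory.quotient _ c').obj J) :=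
    (EtCoh.pull e).mapDerivedCategoryFactorsh.app _ ≪≫
      asIso (DerivedCategory.Qh.map ((HomotopyCategory.quotient _ c').map ψ₁))
  have q₂ := (isIso_bcMap_iff h i j k w' adj₂ J L ψ₂).1
    ((isIso_bcMap_iff_of_iso h i j k w' adj₂ (((EtBC.pullD e).mapIso eK).symm ≪≫ eJ)).1 h2)
  have wa : (i ≫ f) ≫ 𝟙 S = i ≫ f := Category.comp_id _
  have wT : 𝟙 T ≫ g = g ≫ 𝟙 S := by simp
  have wqe : k ≫ e = (k ≫ e) ≫ 𝟙 T := (Category.comp_id _).symm
  let I' := ((EtCoh.pull (𝟙 T)).mapHomologicalComplex c').obj I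
  haveI : CochainComplex.IsKInjective I' := isKInjective_pull_etale (𝟙 T) I
  haveI := isIso_nat (pullId T).hom c' I fun _ => inferInstance
  let eI : DerivedCategory.Qh.obj ((HomotopyCategory.quotient _ c').obj I) ≅
      DerivedCategory.Qh.obj ((HomotopyCategory.quotient _ c').obj I') :=
    DerivedCategory.Qh.mapIso ((HomotopyCategory.quotient _ c').mapIso
      ((Functor.mapHomologicalComplexIdIso _ c').symm.app I ≪≫
        asIso ((NatTrans.mapHomologicalComplex (pullId T).hom c').app I)))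
  haveI := isIso_nat (sqPullIso e (𝟙 T) (k ≫ e) k wqe).hom c' I fun _ => inferInstance
  let ψ : ((EtCoh.pull (k ≫ e)).mapHomologicalComplex c').obj I' ⟶ L :=
    (NatTrans.mapHomologicalComplex (sqPullIso e (𝟙 T) (k ≫ e) k wqe).hom c').app I ≫
      ((EtCoh.pull k).mapHomologicalComplex c').map ψ₁ ≫ ψ₂
  haveI : QuasiIso (((EtCoh.pull k).mapHomologicalComplex c').map ψ₁) := inferInstance
  haveI : QuasiIso ψ := inferInstanceAs (QuasiIso (_ ≫ _ ≫ _))
  refine (isIso_bcMap_iff_of_iso g (i ≫ f) j (k ≫ e) w'' adj₃ (eI.symm ≪≫ eK)).1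
    ((isIso_bcMap_iff g (i ≫ f) j (k ≫ e) w'' adj₃ I' L ψ).2 ?_)
  have cI : IsPullback (𝟙 T) g g (𝟙 S) := IsPullback.of_horiz_isIso ⟨wT⟩
  let α₁ := (NatTrans.mapHomologicalComplex (sqPullIso (𝟙 S) f i (i ≫ f) wa).hom c').app
    (((EtCoh.push g).mapHomologicalComplex c').obj I)
  let α₂ := ((EtCoh.pull (i ≫ f)).mapHomologicalComplex c').map
    ((NatTrans.mapHomologicalComplex (bc0Nat g (𝟙 S) g (𝟙 T) wT) c').app I)
  have key : ((EtCoh.pull i).mapHomologicalComplex c').map (thetaD g f h e w I ψ₁) ≫ thetaD h i j k w' J ψ₂ =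
      α₁ ≫ α₂ ≫ thetaD g (i ≫ f) j (k ≫ e) w'' I' ψ := by
    refine HomologicalComplex.hom_ext _ _ fun m => ?_
    show (EtCoh.pull i).map (EtCoh.baseChange0 g f h e w (I.X m) ≫ (EtCoh.push h).map (ψ₁.f m)) ≫
        EtCoh.baseChange0 h i j k w' (J.X m) ≫ (EtCoh.push j).map (ψ₂.f m) =
      sqPull (𝟙 S) f i (i ≫ f) wa ((EtCoh.push g).obj (I.X m)) ≫
        (EtCoh.pull (i ≫ f)).map (EtCoh.baseChange0 g (𝟙 S) g (𝟙 T) wT (I.X m)) ≫
          EtCoh.baseChange0 g (i ≫ f) j (k ≫ e) w'' ((EtCoh.pull (𝟙 T)).obj (I.X m)) ≫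
            (EtCoh.push j).map (sqPull e (𝟙 T) (k ≫ e) k wqe (I.X m) ≫ (EtCoh.pull k).map (ψ₁.f m) ≫ ψ₂.f m)
    rw [Functor.map_comp, Category.assoc, ← Category.assoc ((EtCoh.pull i).map ((EtCoh.push h).map _)),
      baseChange0_naturality, Category.assoc, ← Category.assoc,
      baseChange0_paste f g h e w i (𝟙 S) (i ≫ f) wa g (𝟙 T) wT j (k ≫ e) w'' k w' wqe, Functor.map_comp,
      Functor.map_comp]
    simp only [Category.assoc]
  haveI : IsIso α₁ := isIso_nat _ c' _ fun _ => inferInstance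
  haveI := isIso_nat (bc0Nat g (𝟙 S) g (𝟙 T) wT) c' I fun m => isIso_baseChange0_of_etale g (𝟙 S) g (𝟙 T) cI (I.X m)
  haveI : IsIso α₂ := inferInstance
  haveI := q₁
  haveI := q₂
  have h' : QuasiIso (α₁ ≫ α₂ ≫ thetaD g (i ≫ f) j (k ≫ e) w'' I' ψ) := by
    rw [← key]; infer_instance
  exact (quasiIso_iff_comp_left α₂ _).1 ((quasiIso_iff_comp_left α₁ _).1 h')

end Groth.Agent.EtBCQ
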