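import Groth.Prelude.Def_RDer
import Mathlib.Algebra.Homology.Homotopy
import Mathlib.CategoryTheory.Adjunction.Limits

/-!
# Comparisons of homology for exact functors and adjunctions
-/

set_option autoImplicit false
set_option linter.style.haveILetI false

universe v₁ v₂ v₃ u₁ u₂ u₃

open CategoryTheory CategoryTheory.Limits HomologicalComplex

namespace Groth.Agent.EtBCQ

set_option backward.isDefEq.respectTransparency false

variable {B : Type u₂} [Category.{v₂} B] [Abelian B] {C : Type u₃} [Category.{v₃} C] [Abelian C]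

section Exact

variable (L : B ⥤ C) [L.Additive] [PreservesFiniteLimits L] {ι : Type*} {c : ComplexShape ι}

theorem isIso_cyclesComparison (K : HomologicalComplex B c) (i : ι) : IsIso (RDer.cyclesComparison L K i) := by
  let M := (L.mapHomologicalComplex c).obj K
  have hw : L.map (K.iCycles i) ≫ M.d i (c.next i) = 0 :=
    (L.map_comp _ _).symm.trans ((congrArg L.map (K.iCycles_d i (c.next i))).trans (L.map_zero _ _))
  refine ⟨⟨M.liftCycles (L.map (K.iCycles i)) (c.next i) rfl hw, ?_, ?_⟩⟩
  · rw [← cancel_mono (M.iCycles i), Category.assoc, liftCycles_i, Category.id_comp]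
    exact RDer.cyclesComparison_i L K i
  · rw [← cancel_mono (L.map (K.iCycles i)), Category.assoc, RDer.cyclesComparison_i, Category.id_comp]
    exact liftCycles_i _ _ _ _ _

theorem isIso_homologyComparison [PreservesFiniteColimits L] (K : HomologicalComplex B c) (i : ι) :
    IsIso (RDer.homologyComparison L K i) := by
  let M := (L.mapHomologicalComplex c).obj K
  haveI := isIso_cyclesComparison L K i
  let hK := CokernelCofork.mapIsColimit _ (K.homologyIsCokernel (c.prev i) i rfl) L
  have hw : L.map (K.toCycles (c.prev i) i) ≫ inv (RDer.cyclesComparison L K i) ≫ M.homologyπ i = 0 := by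
    rw [← RDer.toCycles_cyclesComparison L K i, Category.assoc, IsIso.hom_inv_id_assoc]
    exact M.toCycles_comp_homologyπ _ _
  haveI : Epi (L.map (K.homologyπ i)) := inferInstance
  refine ⟨⟨hK.desc (CokernelCofork.ofπ (inv (RDer.cyclesComparison L K i) ≫ M.homologyπ i) hw), ?_, ?_⟩⟩
  · rw [← cancel_epi (M.homologyπ i), RDer.homologyπ_homologyComparison_assoc, Category.comp_id]
    refine (congrArg (RDer.cyclesComparison L K i ≫ ·) (hK.fac _ WalkingParallelPair.one)).trans ?_
    exact IsIso.hom_inv_id_assoc _ _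
  · rw [← cancel_epi (L.map (K.homologyπ i)), Category.comp_id]
    refine (Category.assoc _ _ _).symm.trans ((congrArg (· ≫ RDer.homologyComparison L K i)
      (hK.fac _ WalkingParallelPair.one)).trans ?_)
    refine (Category.assoc _ _ _).trans ((congrArg (inv (RDer.cyclesComparison L K i) ≫ ·)
      (RDer.homologyπ_homologyComparison L K i)).trans ?_)
    exact IsIso.inv_hom_id_assoc _ _

theorem cyclesComparison_natural {K K' : HomologicalComplex B c} (φ : K ⟶ K') (i : ι) :
    cyclesMap ((L.mapHomologicalComplex c).map φ) i ≫ RDer.cyclesComparison L K' i =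
      RDer.cyclesComparison L K i ≫ L.map (cyclesMap φ i) := by
  haveI : Mono (L.map (K'.iCycles i)) := inferInstance
  rw [← cancel_mono (L.map (K'.iCycles i)), Category.assoc, Category.assoc, RDer.cyclesComparison_i,
    cyclesMap_i, ← L.map_comp, cyclesMap_i, L.map_comp, RDer.cyclesComparison_i_assoc]
  rfl

theorem homologyComparison_natural {K K' : HomologicalComplex B c} (φ : K ⟶ K') (i : ι) :
    homologyMap ((L.mapHomologicalComplex c).map φ) i ≫ RDer.homologyComparison L K' i =
      RDer.homologyComparison L K i ≫ L.map (homologyMap φ i) := by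
  rw [← cancel_epi (((L.mapHomologicalComplex c).obj K).homologyπ i), homologyπ_naturality_assoc,
    RDer.homologyπ_homologyComparison, RDer.homologyπ_homologyComparison_assoc, ← L.map_comp, homologyπ_naturality,
    L.map_comp, ← Category.assoc, cyclesComparison_natural, Category.assoc]

theorem quasiIsoAt_map_iff [PreservesFiniteColimits L] {K K' : HomologicalComplex B c} (φ : K ⟶ K') (i : ι) :
    QuasiIsoAt ((L.mapHomologicalComplex c).map φ) i ↔ IsIso (L.map (homologyMap φ i)) := by
  haveI := isIso_homologyComparison L K i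
  haveI := isIso_homologyComparison L K' i
  rw [quasiIsoAt_iff_isIso_homologyMap]
  constructor
  · intro _
    haveI : IsIso (RDer.homologyComparison L K i ≫ L.map (homologyMap φ i)) := by
      rw [← homologyComparison_natural]; infer_instance
    exact IsIso.of_isIso_comp_left (RDer.homologyComparison L K i) _
  · intro _
    haveI : IsIso (homologyMap ((L.mapHomologicalComplex c).map φ) i ≫ RDer.homologyComparison L K' i) := by
      rw [homologyComparison_natural]; infer_instance
    exact IsIso.of_isIso_comp_right _ (RDer.homologyComparison L K' i)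

end Exact

section Adj

variable {L : B ⥤ C} {R : C ⥤ B} (adj : L ⊣ R) [L.Additive] [PreservesFiniteLimits L] [R.Additive]
  [PreservesFiniteLimits R] {ι : Type*} {c : ComplexShape ι}

theorem transpose_homologyComparison {K : HomologicalComplex B c} {M : HomologicalComplex C c}
    (α : K ⟶ (R.mapHomologicalComplex c).obj M) (β : (L.mapHomologicalComplex c).obj K ⟶ M)
    (hβ : ∀ n, β.f n = (adj.homEquiv _ _).symm (α.f n)) (i : ι) :
    RDer.homologyComparison L K i ≫ (adj.homEquiv _ _).symm (homologyMap α i ≫ RDer.homologyComparison R M i) =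
      homologyMap β i := by
  rw [← cancel_epi (((L.mapHomologicalComplex c).obj K).homologyπ i), RDer.homologyπ_homologyComparison_assoc,
    ← Adjunction.homEquiv_naturality_left_symm, homologyπ_naturality_assoc, RDer.homologyπ_homologyComparison,
    ← Category.assoc, Adjunction.homEquiv_naturality_right_symm, ← Category.assoc, homologyπ_naturality]
  refine congrArg (· ≫ M.homologyπ i) ?_
  rw [← cancel_mono (M.iCycles i), Category.assoc, ← Adjunction.homEquiv_naturality_right_symm, Category.assoc,
    RDer.cyclesComparison_i, cyclesMap_i, Adjunction.homEquiv_naturality_left_symm, RDer.cyclesComparison_i_assoc,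
    cyclesMap_i, hβ]

end Adj

section Homotopy

variable {A : Type u₁} [Category.{v₁} A] [Abelian A] {Y : A} {K : CochainComplex A ℕ} (ι : (CochainComplex.single₀ A).obj Y ⟶ K) [QuasiIso ι] {L : CochainComplex A ℕ}
  [hL : ∀ n, Injective (L.X n)] (f : K ⟶ L) (h0 : ι.f 0 ≫ f.f 0 = 0)

noncomputable def hzZero : K.X 1 ⟶ L.X 0 := (RDer.res_exact₀ K ι).descToInjective (f.f 0) h0

theorem comp_hzZero : K.d 0 1 ≫ hzZero ι f h0 = f.f 0 := (RDer.res_exact₀ K ι).comp_descToInjective _ _

noncomputable def hzOne : K.X 2 ⟶ L.X 1 :=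
  (RDer.res_exact_succ K ι 0).descToInjective (f.f 1 - hzZero ι f h0 ≫ L.d 0 1)
    (by rw [Preadditive.comp_sub, ← Category.assoc, comp_hzZero ι f h0, HomologicalComplex.Hom.comm, sub_self])

theorem comp_hzOne : K.d 1 2 ≫ hzOne ι f h0 = f.f 1 - hzZero ι f h0 ≫ L.d 0 1 :=
  (RDer.res_exact_succ K ι 0).comp_descToInjective _ _

noncomputable def hzSucc (n : ℕ) (g : K.X (n + 1) ⟶ L.X n)
    (g' : K.X (n + 2) ⟶ L.X (n + 1))
    (w : f.f (n + 1) = K.d (n + 1) (n + 2) ≫ g' + g ≫ L.d n (n + 1)) :
    K.X (n + 3) ⟶ L.X (n + 2) :=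
  (RDer.res_exact_succ K ι (n + 1)).descToInjective (f.f (n + 2) - g' ≫ L.d _ _) (by
      dsimp
      rw [Preadditive.comp_sub, ← HomologicalComplex.Hom.comm, w, Preadditive.add_comp,
        Category.assoc, Category.assoc, HomologicalComplex.d_comp_d, comp_zero,
        add_zero, sub_self])

theorem comp_hzSucc (n : ℕ) (g : K.X (n + 1) ⟶ L.X n) (g' : K.X (n + 2) ⟶ L.X (n + 1))
    (w : f.f (n + 1) = K.d (n + 1) (n + 2) ≫ g' + g ≫ L.d n (n + 1)) :
    K.d (n + 2) (n + 3) ≫ hzSucc ι f n g g' w = f.f (n + 2) - g' ≫ L.d _ _ :=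
  (RDer.res_exact_succ K ι (n + 1)).comp_descToInjective _ _

/-- A map from a resolution to a complex of injectives over zero is null homotopic. -/
noncomputable def homotopyZero : Homotopy f 0 :=
  Homotopy.mkCoinductive _ (hzZero ι f h0) (comp_hzZero ι f h0).symm
    (hzOne ι f h0) (by rw [comp_hzOne ι f h0]; simp) (fun n ⟨g, g', w⟩ =>
    ⟨hzSucc ι f n g g' (by simp only [w, add_comm]), by rw [comp_hzSucc]; simp⟩)

omit f h0 in
/-- Two maps from a resolution to a complex of injectives that agree on the augmentation induce the same map. -/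
theorem homologyMap_map_eq' {D : Type u₃} [Category.{v₃} D] [Abelian D] (F : A ⥤ D) [F.Additive]
    (f₁ f₂ : K ⟶ L) (h : ι.f 0 ≫ f₁.f 0 = ι.f 0 ≫ f₂.f 0) (q : ℕ) :
    homologyMap ((F.mapHomologicalComplex _).map f₁) q = homologyMap ((F.mapHomologicalComplex _).map f₂) q :=
  (F.mapHomotopy (Homotopy.equivSubZero.symm (homotopyZero ι (f₁ - f₂) (by
    rw [HomologicalComplex.sub_f_apply, Preadditive.comp_sub, h, sub_self])))).homologyMap_eq q

omit f h0 ι in
/-- Two maps from an injective resolution to a complex of injectives that agree on the augmentation. -/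
theorem homologyMap_map_eq {I : InjectiveResolution Y} {D : Type u₃} [Category.{v₃} D] [Abelian D] (F : A ⥤ D) [F.Additive]
    (f₁ f₂ : I.cocomplex ⟶ L) (h : I.ι.f 0 ≫ f₁.f 0 = I.ι.f 0 ≫ f₂.f 0) (q : ℕ) :
    homologyMap ((F.mapHomologicalComplex _).map f₁) q = homologyMap ((F.mapHomologicalComplex _).map f₂) q :=
  homologyMap_map_eq' I.ι F f₁ f₂ h q

end Homotopy

end Groth.Agent.EtBCQ
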