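import Groth.Agent.EtBCQ.Sq
import Groth.Agent.EtBCQ.Hom
import Groth.Agent.EtFound.PullStalk
import Groth.Prelude.Def_EtBC2

/-!
# The base change maps in each degree on injective resolutions
-/

set_option autoImplicit false
set_option linter.style.haveILetI false
set_option maxHeartbeats 1000000

universe u

open CategoryTheory CategoryTheory.Limits AlgebraicGeometry HomologicalComplex

namespace Groth.Agent.EtBCQ

set_option backward.isDefEq.respectTransparency false
set_option backward.isDefEq.respectTransparency.types false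

variable {X S X' S' : Scheme.{u}} (f : X ⟶ S) (g : S' ⟶ S) (f' : X' ⟶ S') (g' : X' ⟶ X) (w : g' ≫ f = f' ≫ g)
  {F : EtCoh.Ab X} (I : InjectiveResolution F) (J : InjectiveResolution ((EtCoh.pull g').obj F))
  (ψ' : ((EtCoh.pull g').mapHomologicalComplex (ComplexShape.up ℕ)).obj I.cocomplex ⟶ J.cocomplex)

/-- The map of complexes computing base change. -/
noncomputable def theta : ((EtCoh.pull g).mapHomologicalComplex (ComplexShape.up ℕ)).obj
      (((EtCoh.push f).mapHomologicalComplex (ComplexShape.up ℕ)).obj I.cocomplex) ⟶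
    ((EtCoh.push f').mapHomologicalComplex (ComplexShape.up ℕ)).obj J.cocomplex :=
  (NatTrans.mapHomologicalComplex (bc0Nat f g f' g' w) (ComplexShape.up ℕ)).app I.cocomplex ≫
    ((EtCoh.push f').mapHomologicalComplex (ComplexShape.up ℕ)).map ψ'

theorem theta_f (n : ℕ) : (theta f g f' g' w I J ψ').f n =
    EtCoh.baseChange0 f g f' g' w (I.cocomplex.X n) ≫ (EtCoh.push f').map (ψ'.f n) :=
  rfl

/-- The transposed map from the resolution. -/
noncomputable def psiAdj : I.cocomplex ⟶ ((EtCoh.push g').mapHomologicalComplex (ComplexShape.up ℕ)).obj J.cocomplex where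
  f n := ((EtCoh.pullPushAdj g').homEquiv _ _) (ψ'.f n)
  comm' i j _ := by
    refine Eq.trans ((EtCoh.pullPushAdj g').homEquiv_naturality_right _ _).symm ?_
    refine Eq.trans ?_ ((EtCoh.pullPushAdj g').homEquiv_naturality_left _ _)
    exact congrArg _ (ψ'.comm i j)

/-- The isomorphism of the two direct images around the square. -/
noncomputable def pushSqIso : EtCoh.push g' ⋙ EtCoh.push f ≅ EtCoh.push f' ⋙ EtCoh.push g :=
  EtCoh.pushComp f g' ≪≫ EtCoh.pushCongr w ≪≫ (EtCoh.pushComp g f').symm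

/-- The adjoint form of the map of complexes computing base change. -/
noncomputable def thetaAdj : ((EtCoh.push f).mapHomologicalComplex (ComplexShape.up ℕ)).obj I.cocomplex ⟶
    ((EtCoh.push g).mapHomologicalComplex (ComplexShape.up ℕ)).obj
      (((EtCoh.push f').mapHomologicalComplex (ComplexShape.up ℕ)).obj J.cocomplex) :=
  ((EtCoh.push f).mapHomologicalComplex (ComplexShape.up ℕ)).map (psiAdj g' I J ψ') ≫
    (NatTrans.mapHomologicalComplex (pushSqIso f g f' g' w).hom (ComplexShape.up ℕ)).app J.cocomplex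

theorem theta_f_eq (n : ℕ) : (theta f g f' g' w I J ψ').f n =
    ((EtCoh.pullPushAdj g).homEquiv _ _).symm ((thetaAdj f g f' g' w I J ψ').f n) := by
  have h : (thetaAdj f g f' g' w I J ψ').f n =
      ((EtCoh.push f).map ((EtCoh.pullPushAdj g').unit.app (I.cocomplex.X n)) ≫
        (pushSqIso f g f' g' w).hom.app _) ≫ (EtCoh.push g).map ((EtCoh.push f').map (ψ'.f n)) := by
    show (EtCoh.push f).map ((EtCoh.pullPushAdj g').homEquiv _ _ (ψ'.f n)) ≫ (pushSqIso f g f' g' w).hom.app _ = _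
    rw [Adjunction.homEquiv_unit, Functor.map_comp, Category.assoc, Category.assoc]
    exact congrArg (_ ≫ ·) ((pushSqIso f g f' g' w).hom.naturality (ψ'.f n))
  rw [h, theta_f, Adjunction.homEquiv_naturality_right_symm]
  rfl

section Formula

variable [PreservesFiniteLimits (EtCoh.pull g')] (hψ : (EtCoh.pull g').map (I.ι.f 0) ≫ ψ'.f 0 = J.ι.f 0) (q : ℕ)

include hψ in
theorem psiAdj_zero : I.ι.f 0 ≫ (psiAdj g' I J ψ').f 0 =
    (EtCoh.pullPushAdj g').unit.app F ≫ (EtCoh.push g').map (J.ι.f 0) := by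
  refine ((EtCoh.pullPushAdj g').homEquiv_naturality_left _ _).symm.trans ?_
  refine (congrArg _ hψ).trans ?_
  exact Adjunction.homEquiv_unit _ _ _ _

theorem mapAug_zero {A B : Type*} [Category A] [Abelian A] [Category B] [Abelian B] (Φ : A ⥤ B) [Φ.Additive]
    {Z : A} {K : CochainComplex A ℕ} (ι : (CochainComplex.single₀ A).obj Z ⟶ K) :
    (RDer.mapAug Φ ι).f 0 = Φ.map (ι.f 0) := by
  simp [RDer.mapAug, HomologicalComplex.singleMapHomologicalComplex_inv_app_self]

include hψ in
theorem bcQAdj_eq :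
    (I.isoRightDerivedObj (EtCoh.push f) q).inv ≫ EtBC.bcQAdj f g f' g' w q F =
      homologyMap (thetaAdj f g f' g' w I J ψ') q ≫
        RDer.homologyComparison (EtCoh.push g) (((EtCoh.push f').mapHomologicalComplex _).obj J.cocomplex) q ≫
          (EtCoh.push g).map (J.isoRightDerivedObj (EtCoh.push f') q).inv := by
  let Φ := EtCoh.push g'
  let Ψ := EtCoh.push f
  let G := (EtCoh.pull g').obj F
  let J₀ := injectiveResolution G
  let J₁ := injectiveResolution (Φ.obj G)
  let unit := (EtCoh.pullPushAdj g').unit.app F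
  let φ₁ : I.cocomplex ⟶ J₁.cocomplex := InjectiveResolution.desc unit J₁ I
  let φ₂ : J.cocomplex ⟶ J₀.cocomplex := InjectiveResolution.desc (𝟙 G) J₀ J
  have hφ₁ : I.ι.f 0 ≫ φ₁.f 0 = unit ≫ J₁.ι.f 0 := InjectiveResolution.desc_commutes_zero unit J₁ I
  have hφ₂ : J.ι.f 0 ≫ φ₂.f 0 = 𝟙 G ≫ J₀.ι.f 0 := InjectiveResolution.desc_commutes_zero (𝟙 G) J₀ J
  let ψ₂ : J₁.cocomplex ⟶ (Φ.mapHomologicalComplex _).obj J₀.cocomplex :=
    RDer.descToInjectives (𝟙 (Φ.obj G)) J₁.cocomplex J₁.ι ((Φ.mapHomologicalComplex _).obj J₀.cocomplex)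
      (RDer.mapAug Φ J₀.ι)
  have hφ₂' : ∀ (D : EtCoh.Ab X' ⥤ EtCoh.Ab S) [D.Additive], homologyMap ((D.mapHomologicalComplex _).map φ₂) q ≫
      (J₀.isoRightDerivedObj D q).inv = (J.isoRightDerivedObj D q).inv := fun D _ =>
    (InjectiveResolution.isoRightDerivedObj_inv_naturality (𝟙 G) J J₀ φ₂ hφ₂ D q).symm.trans (by simp)
  -- the first two maps
  have h1 : (I.isoRightDerivedObj Ψ q).inv ≫ (EtCoh.Rpush f q).map unit ≫ RDer.edgeIn Φ Ψ q G =
      homologyMap ((Ψ.mapHomologicalComplex _).map (psiAdj g' I J ψ')) q ≫ (J.isoRightDerivedObj (Φ ⋙ Ψ) q).inv := by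
    rw [← hφ₂' (Φ ⋙ Ψ), InjectiveResolution.isoRightDerivedObj_inv_naturality_assoc unit I J₁ φ₁ hφ₁ Ψ q]
    dsimp only [RDer.edgeIn]
    rw [Iso.inv_hom_id_assoc]
    show homologyMap ((Ψ.mapHomologicalComplex _).map φ₁) q ≫ homologyMap ((Ψ.mapHomologicalComplex _).map ψ₂) q ≫ _ =
      homologyMap ((Ψ.mapHomologicalComplex _).map (psiAdj g' I J ψ')) q ≫
        homologyMap ((Ψ.mapHomologicalComplex _).map ((Φ.mapHomologicalComplex _).map φ₂)) q ≫ _
    rw [← Category.assoc, ← Category.assoc, ← homologyMap_comp, ← homologyMap_comp, ← Functor.map_comp,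
      ← Functor.map_comp]
    refine congrArg (· ≫ _) (homologyMap_map_eq Ψ _ _ ?_ q)
    show I.ι.f 0 ≫ φ₁.f 0 ≫ ψ₂.f 0 = I.ι.f 0 ≫ (psiAdj g' I J ψ').f 0 ≫ Φ.map (φ₂.f 0)
    rw [reassoc_of% hφ₁, reassoc_of% (psiAdj_zero g' I J ψ' hψ), ← Φ.map_comp, hφ₂, Category.id_comp]
    refine congrArg (unit ≫ ·) ?_
    refine (RDer.ι_descToInjectives_f_zero (𝟙 (Φ.obj G)) J₁.cocomplex J₁.ι _ (RDer.mapAug Φ J₀.ι)).trans ?_
    rw [Category.id_comp, mapAug_zero]
  have h2 : (J.isoRightDerivedObj (Φ ⋙ Ψ) q).inv ≫ (EtBC.RpushSquareIso f g f' g' w q).hom.app G =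
      homologyMap ((NatTrans.mapHomologicalComplex (pushSqIso f g f' g' w).hom (ComplexShape.up ℕ)).app J.cocomplex) q ≫
        (J.isoRightDerivedObj (EtCoh.push f' ⋙ EtCoh.push g) q).inv := by
    refine (congrArg ((J.isoRightDerivedObj (Φ ⋙ Ψ) q).inv ≫ ·)
      (InjectiveResolution.rightDerived_app_eq (pushSqIso f g f' g' w).hom J q)).trans ?_
    exact Iso.inv_hom_id_assoc _ _
  have h3 : (J.isoRightDerivedObj (EtCoh.push f' ⋙ EtCoh.push g) q).inv ≫
        RDer.edgeOut (EtCoh.push f') (EtCoh.push g) q G =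
      RDer.homologyComparison (EtCoh.push g) (((EtCoh.push f').mapHomologicalComplex _).obj J.cocomplex) q ≫
        (EtCoh.push g).map (J.isoRightDerivedObj (EtCoh.push f') q).inv := by
    rw [← hφ₂' (EtCoh.push f' ⋙ EtCoh.push g), Category.assoc]
    dsimp only [RDer.edgeOut]
    rw [Iso.inv_hom_id_assoc]
    show homologyMap (((EtCoh.push g).mapHomologicalComplex _).map (((EtCoh.push f').mapHomologicalComplex _).map φ₂)) q ≫
      _ ≫ _ = _
    rw [← Category.assoc, homologyComparison_natural, Category.assoc, ← Functor.map_comp]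
    refine congrArg (fun t => _ ≫ (EtCoh.push g).map t) ?_
    exact (InjectiveResolution.isoRightDerivedObj_inv_naturality (𝟙 G) J J₀ φ₂ hφ₂ (EtCoh.push f') q).symm.trans (by simp)
  dsimp only [EtBC.bcQAdj]
  rw [reassoc_of% h1, reassoc_of% h2, h3]
  simp only [← Category.assoc, ← homologyMap_comp]
  rfl

variable [PreservesFiniteLimits (EtCoh.pull g)]

include hψ in
/-- The base change map on resolutions. -/
theorem bcQ_eq :
    RDer.homologyComparison (EtCoh.pull g) (((EtCoh.push f).mapHomologicalComplex _).obj I.cocomplex) q ≫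
        (EtCoh.pull g).map (I.isoRightDerivedObj (EtCoh.push f) q).inv ≫ EtBC.bcQ f g f' g' w q F =
      homologyMap (theta f g f' g' w I J ψ') q ≫ (J.isoRightDerivedObj (EtCoh.push f') q).inv := by
  rw [EtBC.bcQ, ← Adjunction.homEquiv_naturality_left_symm, bcQAdj_eq f g f' g' w I J ψ' hψ q, ← Category.assoc _ _
    ((EtCoh.push g).map _), Adjunction.homEquiv_naturality_right_symm, ← Category.assoc,
    transpose_homologyComparison (EtCoh.pullPushAdj g) (thetaAdj f g f' g' w I J ψ') (theta f g f' g' w I J ψ')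
      (theta_f_eq f g f' g' w I J ψ') q]

include hψ in
/-- The criterion for the base change map to be an isomorphism. -/
theorem isIso_bcQ_iff : IsIso (EtBC.bcQ f g f' g' w q F) ↔ QuasiIsoAt (theta f g f' g' w I J ψ') q := by
  haveI := isIso_homologyComparison (EtCoh.pull g) (((EtCoh.push f).mapHomologicalComplex _).obj I.cocomplex) q
  rw [quasiIsoAt_iff_isIso_homologyMap]
  constructor
  · intro _
    haveI : IsIso (homologyMap (theta f g f' g' w I J ψ') q ≫ (J.isoRightDerivedObj (EtCoh.push f') q).inv) := by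
      rw [← bcQ_eq f g f' g' w I J ψ' hψ q]; infer_instance
    exact IsIso.of_isIso_comp_right _ (J.isoRightDerivedObj (EtCoh.push f') q).inv
  · intro _
    have e := bcQ_eq f g f' g' w I J ψ' hψ q
    rw [← Category.assoc] at e
    haveI : IsIso ((RDer.homologyComparison (EtCoh.pull g) (((EtCoh.push f).mapHomologicalComplex _).obj I.cocomplex) q ≫
        (EtCoh.pull g).map (I.isoRightDerivedObj (EtCoh.push f) q).inv) ≫ EtBC.bcQ f g f' g' w q F) := by
      rw [e]; infer_instance
    exact IsIso.of_isIso_comp_left (RDer.homologyComparison (EtCoh.pull g)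
      (((EtCoh.push f).mapHomologicalComplex _).obj I.cocomplex) q ≫
        (EtCoh.pull g).map (I.isoRightDerivedObj (EtCoh.push f) q).inv) _

/-- A comparison of resolutions along an exact inverse image. -/
theorem exists_psi : ∃ ψ : ((EtCoh.pull g').mapHomologicalComplex (ComplexShape.up ℕ)).obj I.cocomplex ⟶ J.cocomplex,
    (EtCoh.pull g').map (I.ι.f 0) ≫ ψ.f 0 = J.ι.f 0 := by
  haveI : ∀ n, Injective (J.cocomplex.X n) := J.injective
  refine ⟨RDer.descToInjectives (𝟙 _) _ (RDer.mapAug (EtCoh.pull g') I.ι) J.cocomplex J.ι, ?_⟩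
  rw [← mapAug_zero (EtCoh.pull g') I.ι]
  exact (RDer.ι_descToInjectives_f_zero _ _ _ _ _).trans (Category.id_comp _)

end Formula

end Groth.Agent.EtBCQ
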