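import Groth.Agent.EtBCQ.Les
import Groth.Agent.EtTorLib.InjTors
import Groth.Agent.EtFound.Presentation
import Mathlib.CategoryTheory.Preadditive.Injective.Basic

/-!
# Sheaves killed by `n` embed in acyclic sheaves killed by `n`
-/

set_option autoImplicit false
set_option linter.style.haveILetI false

universe u v₁ v₂ u₁ u₂

open CategoryTheory CategoryTheory.Limits AlgebraicGeometry HomologicalComplex

namespace Groth.Agent.EtBCQ

set_option backward.isDefEq.respectTransparency false
set_option backward.isDefEq.respectTransparency.types false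

section Kernel

variable {C : Type u₁} [Category.{v₁} C] [Abelian C] [HasInjectiveResolutions C]
  {D : Type u₂} [Category.{v₂} D] [Abelian D] (F : C ⥤ D) [F.Additive] [PreservesFiniteLimits F]

/-- The kernel of a map of injectives that stays an epimorphism is acyclic. -/
theorem isZero_rightDerived_kernel {S : ShortComplex C} (hS : S.ShortExact) [Injective S.X₂] [Injective S.X₃]
    [Epi (F.map S.g)] (a : ℕ) : IsZero ((F.rightDerived (a + 1)).obj S.X₁) := by
  obtain ⟨R⟩ := SESResLib.nonempty_sesRes_of_hasInjectiveResolutions hS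
  have hR := R.map_shortExact F
  refine IsZero.of_iso ?_ (R.I₁.isoRightDerivedObj F (a + 1))
  refine (hR.homology_exact₁ a (a + 1) rfl).isZero_of_both_zeros ?_ ?_
  · cases a with
    | succ a =>
      exact IsZero.eq_of_src ((F.isZero_rightDerived_obj_injective_succ a S.X₃).of_iso
        (R.I₃.isoRightDerivedObj F (a + 1)).symm) _ _
    | zero =>
      have h₀ : Epi ((F.rightDerived 0).map S.g) := by
        haveI : Epi ((F.rightDerived 0).map S.g ≫ F.rightDerivedZeroIsoSelf.hom.app S.X₃) := by
          rw [F.rightDerivedZeroIsoSelf.hom.naturality S.g]; infer_instance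
        exact (epi_comp_iff_of_isIso _ (F.rightDerivedZeroIsoSelf.hom.app S.X₃)).1 this
      haveI : Epi (homologyMap ((F.mapHomologicalComplex (ComplexShape.up ℕ)).map R.g) 0) := by
        have e := InjectiveResolution.isoRightDerivedObj_inv_naturality S.g R.I₂ R.I₃ R.g
          (SESResLib.ι₀_comm R.ι_g) F 0
        haveI := h₀
        haveI : Epi (homologyMap ((F.mapHomologicalComplex (ComplexShape.up ℕ)).map R.g) 0 ≫
            (R.I₃.isoRightDerivedObj F 0).inv) := by
          show Epi ((F.mapHomologicalComplex (ComplexShape.up ℕ) ⋙ homologyFunctor D (ComplexShape.up ℕ) 0).map R.g ≫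
            (R.I₃.isoRightDerivedObj F 0).inv)
          rw [← e]; infer_instance
        exact (epi_comp_iff_of_isIso _ (R.I₃.isoRightDerivedObj F 0).inv).1 inferInstance
      refine (cancel_epi (homologyMap ((F.mapHomologicalComplex (ComplexShape.up ℕ)).map R.g) 0)).1 ?_
      rw [comp_zero]
      exact hR.comp_δ 0 1 rfl
  · exact IsZero.eq_of_tgt ((F.isZero_rightDerived_obj_injective_succ a S.X₂).of_iso
      (R.I₂.isoRightDerivedObj F (a + 1)).symm) _ _

end Kernel

variable {T S' : Scheme.{u}} (g : T ⟶ S')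

/-- A sheaf killed by `n` embeds in one without higher direct images. -/
theorem exists_hull (n : ℕ) (F : EtCoh.Ab T) (hF : EtCoh.KilledBy n F) :
    ∃ (G : EtCoh.Ab T) (j : F ⟶ G), Mono j ∧ EtCoh.KilledBy n G ∧
      ∀ a, IsZero ((EtCoh.Rpush g (a + 1)).obj G) := by
  haveI : (EtCoh.push g).IsRightAdjoint := (EtCoh.pullPushAdj g).isRightAdjoint
  obtain ⟨⟨I, _, ι, _⟩⟩ := EnoughInjectives.presentation F
  rcases Nat.eq_zero_or_pos n with rfl | hn
  · exact ⟨I, ι, inferInstance, fun U s => zero_smul ℕ s,
      fun a => (EtCoh.push g).isZero_rightDerived_obj_injective_succ a I⟩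
  · haveI := EtTorLib.epi_nsmul I hn
    have h0 : ι ≫ (n • 𝟙 I) = 0 := by
      rw [Preadditive.comp_nsmul, Category.comp_id]
      have := congrArg (· ≫ ι) ((EtFound.killedBy_iff_nsmul n F).1 hF)
      simpa [Preadditive.nsmul_comp] using this
    refine ⟨kernel (n • 𝟙 I), kernel.lift _ ι h0, mono_of_mono_fac (kernel.lift_ι _ ι h0), ?_, fun a => ?_⟩
    · rw [EtFound.killedBy_iff_nsmul, ← cancel_mono (kernel.ι (n • 𝟙 I)), zero_comp, Preadditive.nsmul_comp,
        Category.id_comp]
      have := kernel.condition (n • 𝟙 I)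
      rwa [Preadditive.comp_nsmul, Category.comp_id] at this
    · haveI := EtFound.pull_preservesFiniteLimits g
      haveI : (EtCoh.pull g).PreservesMonomorphisms := preservesMonomorphisms_of_preservesLimitsOfShape _
      haveI : Injective ((EtCoh.push g).obj I) := Injective.injective_of_adjoint (EtCoh.pullPushAdj g) I
      let Sq := ShortComplex.mk (kernel.ι (n • 𝟙 I)) (n • 𝟙 I) (kernel.condition _)
      have hS : Sq.ShortExact := { exact := ShortComplex.exact_of_f_is_kernel _ (kernelIsKernel _) }
      haveI : Injective Sq.X₂ := ‹Injective I›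
      haveI : Injective Sq.X₃ := ‹Injective I›
      haveI : Epi ((EtCoh.push g).map Sq.g) := by
        show Epi ((EtCoh.push g).map (n • 𝟙 I))
        rw [Functor.map_nsmul, CategoryTheory.Functor.map_id]
        exact EtTorLib.epi_nsmul _ hn
      exact isZero_rightDerived_kernel (EtCoh.push g) hS a

/-- A quotient of a sheaf killed by `n` is killed by `n`. -/
theorem killedBy_of_epi {n : ℕ} {F G : EtCoh.Ab T} (p : F ⟶ G) [Epi p] (hF : EtCoh.KilledBy n F) :
    EtCoh.KilledBy n G := by
  rw [EtFound.killedBy_iff_nsmul, ← cancel_epi p, comp_zero, Preadditive.comp_nsmul, Category.comp_id]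
  have := congrArg (· ≫ p) ((EtFound.killedBy_iff_nsmul n F).1 hF)
  simpa [Preadditive.nsmul_comp] using this

section BC

variable {X' Y : Scheme.{u}} (f : X' ⟶ S') (h : Y ⟶ X') (e : Y ⟶ T) (w : e ≫ g = h ≫ f)
  [PreservesFiniteLimits (EtCoh.pull e)] {n q : ℕ} (hq : 1 ≤ q)
  (hBC : ∀ G : EtCoh.Ab T, EtCoh.KilledBy n G → IsIso (EtBC.bcQ g f h e w (q - 1) G))

include hq hBC in
/-- Base change is injective one degree above its range. -/
theorem mono_bcQ_of_below (F : EtCoh.Ab T) (hF : EtCoh.KilledBy n F) : Mono (EtBC.bcQ g f h e w q F) := by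
  haveI := EtFound.pull_preservesFiniteLimits f
  obtain ⟨G, j, _, hG, h0⟩ := exists_hull g n F hF
  let S := ShortComplex.mk j (cokernel.π j) (cokernel.condition j)
  have hS : S.ShortExact := { exact := ShortComplex.exact_of_g_is_cokernel _ (cokernelIsCokernel j) }
  obtain ⟨i, rfl⟩ : ∃ i, q = i + 1 := ⟨q - 1, by omega⟩
  haveI : IsIso (EtBC.bcQ g f h e w i G) := hBC G hG
  haveI : IsIso (EtBC.bcQ g f h e w i (cokernel j)) := hBC _ (killedBy_of_epi (cokernel.π j) hG)
  exact mono_bcQ_of_ses f g h e w S hS i (i + 1) rfl (show Epi (EtBC.bcQ g f h e w i G) by infer_instance)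
    (show Mono (EtBC.bcQ g f h e w i (cokernel j)) by infer_instance)
    ⟨fun a b _ => ((EtCoh.pull f).map_isZero (h0 i)).eq_of_tgt a b⟩

include hq hBC in
/-- The cokernels of base change one degree above its range map injectively. -/
theorem mono_coker_of_below {F G : EtCoh.Ab T} (ι : F ⟶ G) [Mono ι] (hG : EtCoh.KilledBy n G) :
    haveI := EtFound.pull_preservesFiniteLimits f
    Mono (cokernel.map (EtBC.bcQ g f h e w q F) (EtBC.bcQ g f h e w q G)
      ((EtCoh.pull f).map ((EtCoh.Rpush g q).map ι)) ((EtCoh.Rpush h q).map ((EtCoh.pull e).map ι))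
      (bcQ_naturality f g h e w ι q)) := by
  haveI := EtFound.pull_preservesFiniteLimits f
  let S := ShortComplex.mk ι (cokernel.π ι) (cokernel.condition ι)
  have hS : S.ShortExact := { exact := ShortComplex.exact_of_g_is_cokernel _ (cokernelIsCokernel ι) }
  have hQ := killedBy_of_epi (cokernel.π ι) hG
  have h₃ := mono_bcQ_of_below g f h e w hq hBC _ hQ
  obtain ⟨i, rfl⟩ : ∃ i, q = i + 1 := ⟨q - 1, by omega⟩
  haveI : IsIso (EtBC.bcQ g f h e w i (cokernel ι)) := hBC _ hQ
  exact mono_coker_of_ses f g h e w S hS i (i + 1) rfl (show Epi (EtBC.bcQ g f h e w i (cokernel ι)) by infer_instance) h₃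

end BC

end Groth.Agent.EtBCQ
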