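import Groth.Agent.SiteBase.Horseshoe

/-!
# Lifting maps from split resolutions to injective resolutions of short exact sequences
-/

set_option autoImplicit false

universe v u

open CategoryTheory CategoryTheory.Limits

noncomputable section

namespace Groth.Agent.EtBCQ

variable {C : Type u} [Category.{v} C] [Abelian C] {S S' : ShortComplex C}

/-- The augmentation in degree zero, from the object. -/
def aug0 {X : C} {K : CochainComplex C ℕ} (ι : (CochainComplex.single₀ C).obj X ⟶ K) : X ⟶ K.X 0 := ι.f 0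

theorem mono_aug0 {X : C} {K : CochainComplex C ℕ} (ι : (CochainComplex.single₀ C).obj X ⟶ K) [QuasiIso ι] :
    Mono (aug0 ι) :=
  RDer.res_mono K ι

/-- A degreewise split sequence of resolutions of a short complex. -/
structure PreRes (S : ShortComplex C) where
  /-- the resolution of the left object -/
  K₁ : CochainComplex C ℕ
  /-- the resolution of the middle object -/
  K₂ : CochainComplex C ℕ
  /-- the resolution of the right object -/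
  K₃ : CochainComplex C ℕ
  /-- augmentation -/
  ι₁ : (CochainComplex.single₀ C).obj S.X₁ ⟶ K₁
  /-- augmentation -/
  ι₂ : (CochainComplex.single₀ C).obj S.X₂ ⟶ K₂
  /-- augmentation -/
  ι₃ : (CochainComplex.single₀ C).obj S.X₃ ⟶ K₃
  quasi₁ : QuasiIso ι₁
  quasi₂ : QuasiIso ι₂
  quasi₃ : QuasiIso ι₃
  /-- the first map -/
  f : K₁ ⟶ K₂
  /-- the second map -/
  g : K₂ ⟶ K₃
  zero : ∀ n, f.f n ≫ g.f n = 0
  ι_f : aug0 ι₁ ≫ f.f 0 = S.f ≫ aug0 ι₂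
  ι_g : aug0 ι₂ ≫ g.f 0 = S.g ≫ aug0 ι₃
  /-- the splittings -/
  split : ∀ n, (ShortComplex.mk (f.f n) (g.f n) (zero n)).Splitting

section Aug

variable {X : C} {K : CochainComplex C ℕ} (ι : (CochainComplex.single₀ C).obj X ⟶ K)

/-- The source of the augmented differential. -/
def pObj (X : C) (K : CochainComplex C ℕ) : ℕ → C
  | 0 => X
  | n + 1 => K.X n

/-- The augmented differential. -/
def pAug : (n : ℕ) → pObj X K n ⟶ K.X n
  | 0 => aug0 ι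
  | n + 1 => K.d n (n + 1)

theorem pAug_d (n : ℕ) : pAug ι n ≫ K.d n (n + 1) = 0 := by
  cases n with
  | zero => exact RDer.res_ι_d K ι
  | succ n => exact K.d_comp_d _ _ _

theorem pAug_exact [QuasiIso ι] (n : ℕ) : (ShortComplex.mk _ _ (pAug_d ι n)).Exact := by
  cases n with
  | zero => exact RDer.res_exact₀ K ι
  | succ n => exact RDer.res_exact_succ K ι n

end Aug

variable (φ : S ⟶ S') (T : PreRes S) (T' : RDer.SESRes S')
  (a : T.K₁ ⟶ T'.I₁.cocomplex) (c : T.K₃ ⟶ T'.I₃.cocomplex)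

/-- The possible middle components. -/
def PMid (n : ℕ) : Type v :=
  {b : T.K₂.X n ⟶ T'.I₂.cocomplex.X n //
    T.f.f n ≫ b = a.f n ≫ T'.f.f n ∧ b ≫ T'.g.f n = T.g.f n ≫ c.f n ∧
      pAug T.ι₂ n ≫ b ≫ T'.I₂.cocomplex.d n (n + 1) = 0}

theorem pAug₃_comp_eq_zero [Epi S.g] {n : ℕ} {B : C} (D : T.K₃.X n ⟶ B)
    (h : pAug T.ι₂ n ≫ T.g.f n ≫ D = 0) : pAug T.ι₃ n ≫ D = 0 := by
  cases n with
  | zero =>
    change aug0 T.ι₂ ≫ T.g.f 0 ≫ D = 0 at h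
    rw [reassoc_of% T.ι_g] at h
    change aug0 T.ι₃ ≫ D = 0
    refine (cancel_epi S.g).1 ?_
    rw [comp_zero]
    exact h
  | succ n =>
    have := (T.split n).shortExact.epi_g
    change T.K₂.d n (n + 1) ≫ T.g.f (n + 1) ≫ D = 0 at h
    rw [← T.g.comm_assoc] at h
    change T.K₃.d n (n + 1) ≫ D = 0
    rw [← cancel_epi (T.g.f n), h, comp_zero]

theorem pMid_succ [Epi S.g] {n : ℕ} (m : PMid T T' a c n) :
    ∃ m' : PMid T T' a c (n + 1),
      T.K₂.d n (n + 1) ≫ m'.1 = m.1 ≫ T'.I₂.cocomplex.d n (n + 1) := by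
  obtain ⟨b, hb₁, hb₃, hb⟩ := m
  have := SESResLib.mono_f T' (n + 1)
  have := (T.split n).shortExact.epi_g
  have := T'.I₁.injective (n + 1)
  haveI := T.quasi₃
  obtain ⟨b', h₁, h₃, h⟩ := SESResLib.exists_mid (T.split (n + 1)) (SESResLib.split T' (n + 1))
    (T.split n).shortExact.exact
    (a.f (n + 1)) (c.f (n + 1)) (T.K₁.d n (n + 1)) (T.K₂.d n (n + 1))
    (T.K₃.d n (n + 1)) (b ≫ T'.I₂.cocomplex.d n (n + 1)) (T.f.comm n (n + 1))
    (T.g.comm n (n + 1)).symm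
    (by rw [reassoc_of% hb₁, T'.f.comm, a.comm_assoc])
    (by rw [Category.assoc, ← T'.g.comm, reassoc_of% hb₃, c.comm])
    (fun D b₀ _ _ hD => by
      have h0 : pAug T.ι₃ n ≫ D = 0 := by
        apply pAug₃_comp_eq_zero T D
        rw [← cancel_mono (T'.f.f (n + 1)), Category.assoc, Category.assoc, zero_comp, hD,
          Preadditive.comp_sub, hb, reassoc_of% (pAug_d T.ι₂ n), zero_comp, sub_zero]
      exact ⟨(pAug_exact T.ι₃ n).descToInjective D h0, (pAug_exact T.ι₃ n).comp_descToInjective _ _⟩)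
  refine ⟨⟨b', h₁, h₃, ?_⟩, h⟩
  change T.K₂.d n (n + 1) ≫ _ = 0
  rw [reassoc_of% h, HomologicalComplex.d_comp_d, comp_zero]

include φ in
theorem pMid_zero (ha : aug0 T.ι₁ ≫ a.f 0 = φ.τ₁ ≫ SESResLib.ι₀ T'.I₁) (hc : aug0 T.ι₃ ≫ c.f 0 = φ.τ₃ ≫ SESResLib.ι₀ T'.I₃)
    (hS : S.ShortExact) : ∃ m : PMid T T' a c 0, aug0 T.ι₂ ≫ m.1 = φ.τ₂ ≫ SESResLib.ι₀ T'.I₂ := by
  have := hS.epi_g
  have := T'.I₁.injective 0
  haveI := T.quasi₃
  haveI := mono_aug0 T.ι₃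
  have hf : SESResLib.ι₀ T'.I₁ ≫ T'.f.f 0 = S'.f ≫ SESResLib.ι₀ T'.I₂ := SESResLib.ι₀_comm T'.ι_f
  have hg : SESResLib.ι₀ T'.I₂ ≫ T'.g.f 0 = S'.g ≫ SESResLib.ι₀ T'.I₃ := SESResLib.ι₀_comm T'.ι_g
  obtain ⟨b, h₁, h₃, h⟩ := SESResLib.exists_mid (T.split 0) (SESResLib.split T' 0) hS.exact
    (a.f 0) (c.f 0) (aug0 T.ι₁) (aug0 T.ι₂) (aug0 T.ι₃) (φ.τ₂ ≫ SESResLib.ι₀ T'.I₂) T.ι_f.symm
    T.ι_g
    (by rw [← φ.comm₁₂_assoc, reassoc_of% ha, hf])
    (by rw [Category.assoc, hg, hc, φ.comm₂₃_assoc])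
    (fun D _ _ _ _ => ⟨Injective.factorThru D (aug0 T.ι₃), Injective.comp_factorThru _ _⟩)
  refine ⟨⟨b, h₁, h₃, ?_⟩, h⟩
  change aug0 T.ι₂ ≫ _ = 0
  refine (Category.assoc _ _ _).symm.trans ((congrArg (· ≫ _) h).trans ?_)
  refine (Category.assoc _ _ _).trans ((congrArg (_ ≫ ·) (SESResLib.ι₀_d T'.I₂)).trans comp_zero)

include φ in
/-- Lifting a map of short complexes to a map of the resolutions. -/
theorem exists_lift (ha : aug0 T.ι₁ ≫ a.f 0 = φ.τ₁ ≫ SESResLib.ι₀ T'.I₁)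
    (hc : aug0 T.ι₃ ≫ c.f 0 = φ.τ₃ ≫ SESResLib.ι₀ T'.I₃) (hS : S.ShortExact) :
    ∃ b : T.K₂ ⟶ T'.I₂.cocomplex, T.f ≫ b = a ≫ T'.f ∧ b ≫ T'.g = T.g ≫ c ∧
      aug0 T.ι₂ ≫ b.f 0 = φ.τ₂ ≫ SESResLib.ι₀ T'.I₂ := by
  have := hS.epi_g
  obtain ⟨m₀, hm₀⟩ := pMid_zero φ T T' a c ha hc hS
  let ms : ∀ n, PMid T T' a c n := fun n =>
    Nat.rec m₀ (fun k m => (pMid_succ T T' a c m).choose) n
  have hms : ∀ n, T.K₂.d n (n + 1) ≫ (ms (n + 1)).1 = (ms n).1 ≫ T'.I₂.cocomplex.d n (n + 1) :=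
    fun n => (pMid_succ T T' a c (ms n)).choose_spec
  refine ⟨{ f := fun n => (ms n).1
            comm' := fun i j hij => by
              obtain rfl : i + 1 = j := hij
              exact (hms i).symm }, ?_, ?_, hm₀⟩
  · ext n
    exact (ms n).2.1
  · ext n
    exact (ms n).2.2.1

end Groth.Agent.EtBCQ
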