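import Groth.Agent.EtBCQ.Formula
import Groth.Agent.EtBCQ.Lift
import Mathlib.Algebra.Homology.HomologySequenceLemmas
import Mathlib.CategoryTheory.Abelian.Refinements

/-!
# Base change and the long exact sequences
-/

set_option autoImplicit false
set_option linter.style.haveILetI false
set_option maxHeartbeats 1000000

universe u v₁ u₁

open CategoryTheory CategoryTheory.Limits AlgebraicGeometry HomologicalComplex

namespace Groth.Agent.EtBCQ

set_option backward.isDefEq.respectTransparency false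
set_option backward.isDefEq.respectTransparency.types false

section Chase

variable {A : Type u₁} [Category.{v₁} A] [Abelian A] {P Q A₁ A₂ A₃ B₁ B₂ B₃ : A} (p : P ⟶ Q)
  {δ : P ⟶ A₁} {δ' : Q ⟶ B₁} {f : A₁ ⟶ A₂} {g : A₂ ⟶ A₃} {f' : B₁ ⟶ B₂} {g' : B₂ ⟶ B₃}
  (b₁ : A₁ ⟶ B₁) (b₂ : A₂ ⟶ B₂) (b₃ : A₃ ⟶ B₃)

theorem mono_cokernel_map (w₀ : δ ≫ b₁ = p ≫ δ') (w₁ : f ≫ b₂ = b₁ ≫ f') (w₂ : g ≫ b₃ = b₂ ≫ g')
    (hfg : f ≫ g = 0) (ex : (ShortComplex.mk f g hfg).Exact) (hfg' : f' ≫ g' = 0)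
    (hδ' : δ' ≫ f' = 0) (ex' : (ShortComplex.mk δ' f' hδ').Exact) [Epi p] [Mono b₃] :
    Mono (cokernel.map b₁ b₂ f f' w₁.symm) := by
  rw [Preadditive.mono_iff_cancel_zero]
  intro Z x hx
  obtain ⟨Z₁, π₁, _, y, hy⟩ := surjective_up_to_refinements_of_epi (cokernel.π b₁) x
  have h₁ : (y ≫ f') ≫ cokernel.π b₂ = 0 := by
    refine (Category.assoc _ _ _).trans ((congrArg (y ≫ ·) (cokernel.π_desc b₁ (f' ≫ cokernel.π b₂) (by rw [← reassoc_of% w₁, cokernel.condition, comp_zero])).symm).trans ?_)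
    rw [← Category.assoc, ← hy, Category.assoc]
    exact (congrArg (π₁ ≫ ·) hx).trans comp_zero
  obtain ⟨Z₂, π₂, _, z, hz⟩ :=
    (ShortComplex.exact_iff_exact_up_to_refinements _).1 (ShortComplex.exact_cokernel b₂) (y ≫ f') h₁
  dsimp at z hz
  have h₂ : z ≫ g = 0 := by
    rw [← cancel_mono b₃, zero_comp, Category.assoc, w₂, ← Category.assoc, ← hz]
    simp only [Category.assoc, hfg', comp_zero]
  obtain ⟨Z₃, π₃, _, w, hw⟩ := (ShortComplex.exact_iff_exact_up_to_refinements _).1 ex z h₂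
  dsimp at w hw
  have h₃ : (π₃ ≫ π₂ ≫ y - w ≫ b₁) ≫ f' = 0 := by
    rw [Preadditive.sub_comp, Category.assoc, Category.assoc, Category.assoc, ← w₁, ← Category.assoc w,
      ← hw, hz, Category.assoc, sub_self]
  obtain ⟨Z₄, π₄, _, v, hv⟩ := (ShortComplex.exact_iff_exact_up_to_refinements _).1 ex' _ h₃
  dsimp at v hv
  obtain ⟨Z₅, π₅, _, v', hv'⟩ := surjective_up_to_refinements_of_epi p v
  have h₄ : π₅ ≫ π₄ ≫ (π₃ ≫ π₂ ≫ y - w ≫ b₁) = (v' ≫ δ) ≫ b₁ := by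
    rw [hv, ← Category.assoc, hv', Category.assoc, ← w₀, Category.assoc]
  have h₅ : (π₅ ≫ π₄ ≫ π₃ ≫ π₂ ≫ π₁) ≫ x = 0 := by
    simp only [Category.assoc]
    rw [hy]
    have := congrArg (· ≫ cokernel.π b₁) h₄
    simp only [Category.assoc, Preadditive.sub_comp, cokernel.condition, comp_zero, sub_zero] at this
    exact this
  exact (cancel_epi (π₅ ≫ π₄ ≫ π₃ ≫ π₂ ≫ π₁)).1 (h₅.trans comp_zero.symm)

theorem mono_cokernel_map_of_iso {A₁' A₂' B₁' B₂' : A} (a₁ : A₁ ≅ A₁') (c₁ : B₁ ≅ B₁') (a₂ : A₂ ≅ A₂')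
    (c₂ : B₂ ≅ B₂') (b₁' : A₁' ⟶ B₁') (b₂' : A₂' ⟶ B₂') (k : A₁' ⟶ A₂') (l : B₁' ⟶ B₂') (w : b₁' ≫ l = k ≫ b₂')
    (w₁ : f ≫ b₂ = b₁ ≫ f') (h₁ : b₁ ≫ c₁.hom = a₁.hom ≫ b₁') (h₂ : b₂ ≫ c₂.hom = a₂.hom ≫ b₂')
    (hl : f' ≫ c₂.hom = c₁.hom ≫ l) [Mono (cokernel.map b₁ b₂ f f' w₁.symm)] :
    Mono (cokernel.map b₁' b₂' k l w) := by
  have e : cokernel.map b₁' b₂' k l w =
      (cokernel.mapIso b₁ b₁' a₁ c₁ h₁).inv ≫ cokernel.map b₁ b₂ f f' w₁.symm ≫
        (cokernel.mapIso b₂ b₂' a₂ c₂ h₂).hom := by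
    rw [Iso.eq_inv_comp]
    refine (cancel_epi (cokernel.π b₁)).1 ?_
    simp only [cokernel.mapIso_hom, cokernel.π_desc_assoc, cokernel.π_desc, cokernel.map, Category.assoc]
    exact (Category.assoc _ _ _).symm.trans ((congrArg (· ≫ _) hl.symm).trans (Category.assoc _ _ _))
  rw [e]
  infer_instance

end Chase

variable {X S Y T : Scheme.{u}} (f : X ⟶ S) (g : T ⟶ S) (h : Y ⟶ X) (e : Y ⟶ T) (w : e ≫ g = h ≫ f)

theorem theta_naturality {F F' : EtCoh.Ab T} (I : InjectiveResolution F) (I' : InjectiveResolution F')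
    (J : InjectiveResolution ((EtCoh.pull e).obj F)) (J' : InjectiveResolution ((EtCoh.pull e).obj F'))
    (φ : I.cocomplex ⟶ I'.cocomplex) (φ' : J.cocomplex ⟶ J'.cocomplex)
    (ψ : ((EtCoh.pull e).mapHomologicalComplex (ComplexShape.up ℕ)).obj I.cocomplex ⟶ J.cocomplex)
    (ψ' : ((EtCoh.pull e).mapHomologicalComplex (ComplexShape.up ℕ)).obj I'.cocomplex ⟶ J'.cocomplex)
    (hc : ((EtCoh.pull e).mapHomologicalComplex (ComplexShape.up ℕ)).map φ ≫ ψ' = ψ ≫ φ') :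
    ((EtCoh.pull f).mapHomologicalComplex _).map (((EtCoh.push g).mapHomologicalComplex _).map φ) ≫
        theta g f h e w I' J' ψ' =
      theta g f h e w I J ψ ≫ ((EtCoh.push h).mapHomologicalComplex _).map φ' := by
  refine HomologicalComplex.hom_ext _ _ fun n => ?_
  show (EtCoh.pull f).map ((EtCoh.push g).map (φ.f n)) ≫
      EtCoh.baseChange0 g f h e w (I'.cocomplex.X n) ≫ (EtCoh.push h).map (ψ'.f n) =
    (EtCoh.baseChange0 g f h e w (I.cocomplex.X n) ≫ (EtCoh.push h).map (ψ.f n)) ≫ (EtCoh.push h).map (φ'.f n)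
  rw [← Category.assoc, baseChange0_naturality, Category.assoc, Category.assoc, ← Functor.map_comp, ← Functor.map_comp]
  exact congrArg (fun t => _ ≫ (EtCoh.push h).map t) (congrArg (fun t => t.f n) hc)

variable [PreservesFiniteLimits (EtCoh.pull e)] [PreservesFiniteLimits (EtCoh.pull f)]

/-- Resolutions of a short exact sequence and of its inverse image, with the maps between them. -/
theorem exists_resolutions (Sc : ShortComplex (EtCoh.Ab T)) (hSc : Sc.ShortExact) :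
    ∃ (R : RDer.SESRes Sc) (R' : RDer.SESRes (Sc.map (EtCoh.pull e)))
      (ψ₁ : ((EtCoh.pull e).mapHomologicalComplex (ComplexShape.up ℕ)).obj R.I₁.cocomplex ⟶ R'.I₁.cocomplex)
      (ψ₂ : ((EtCoh.pull e).mapHomologicalComplex (ComplexShape.up ℕ)).obj R.I₂.cocomplex ⟶ R'.I₂.cocomplex)
      (ψ₃ : ((EtCoh.pull e).mapHomologicalComplex (ComplexShape.up ℕ)).obj R.I₃.cocomplex ⟶ R'.I₃.cocomplex),
      (EtCoh.pull e).map (R.I₁.ι.f 0) ≫ ψ₁.f 0 = R'.I₁.ι.f 0 ∧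
      (EtCoh.pull e).map (R.I₂.ι.f 0) ≫ ψ₂.f 0 = R'.I₂.ι.f 0 ∧
      (EtCoh.pull e).map (R.I₃.ι.f 0) ≫ ψ₃.f 0 = R'.I₃.ι.f 0 ∧
      ((EtCoh.pull e).mapHomologicalComplex _).map R.f ≫ ψ₂ = ψ₁ ≫ R'.f ∧
      ((EtCoh.pull e).mapHomologicalComplex _).map R.g ≫ ψ₃ = ψ₂ ≫ R'.g := by
  let E := EtCoh.pull e
  obtain ⟨R⟩ := SESResLib.nonempty_sesRes_of_hasInjectiveResolutions hSc
  have hSe : (Sc.map E).ShortExact := hSc.map_of_exact E
  obtain ⟨R'⟩ := SESResLib.nonempty_sesRes_of_hasInjectiveResolutions hSe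
  let M := E.mapHomologicalComplex (ComplexShape.up ℕ)
  let T₀ : PreRes (Sc.map E) :=
    { K₁ := M.obj R.I₁.cocomplex, K₂ := M.obj R.I₂.cocomplex, K₃ := M.obj R.I₃.cocomplex
      ι₁ := RDer.mapAug E R.I₁.ι, ι₂ := RDer.mapAug E R.I₂.ι, ι₃ := RDer.mapAug E R.I₃.ι
      quasi₁ := inferInstance, quasi₂ := inferInstance, quasi₃ := inferInstance
      f := M.map R.f, g := M.map R.g
      zero := fun n => ((R.splitting n).map E).shortExact.exact |> fun _ =>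
        (E.map_comp _ _).symm.trans ((congrArg E.map (congrArg (fun t => t.f n) R.zero)).trans (E.map_zero _ _))
      ι_f := by
        show (RDer.mapAug E R.I₁.ι).f 0 ≫ E.map (R.f.f 0) = E.map Sc.f ≫ (RDer.mapAug E R.I₂.ι).f 0
        rw [mapAug_zero, mapAug_zero, ← E.map_comp, ← E.map_comp]
        exact congrArg E.map (SESResLib.ι₀_comm R.ι_f)
      ι_g := by
        show (RDer.mapAug E R.I₂.ι).f 0 ≫ E.map (R.g.f 0) = E.map Sc.g ≫ (RDer.mapAug E R.I₃.ι).f 0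
        rw [mapAug_zero, mapAug_zero, ← E.map_comp, ← E.map_comp]
        exact congrArg E.map (SESResLib.ι₀_comm R.ι_g)
      split := fun n => (R.splitting n).map E }
  obtain ⟨a, ha⟩ := exists_psi e R.I₁ R'.I₁
  obtain ⟨c, hc⟩ := exists_psi e R.I₃ R'.I₃
  have hz : ∀ {Z : EtCoh.Ab T} (I : InjectiveResolution Z), aug0 (RDer.mapAug E I.ι) = E.map (I.ι.f 0) :=
    fun I => mapAug_zero E I.ι
  obtain ⟨b, hb₁, hb₃, hb⟩ := exists_lift (𝟙 (Sc.map E)) T₀ R' a c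
    (by rw [hz]; exact ha.trans (Category.id_comp _).symm)
    (by rw [hz]; exact hc.trans (Category.id_comp _).symm) hSe
  refine ⟨R, R', a, b, c, ha, ?_, hc, hb₁, hb₃.symm⟩
  rw [hz] at hb
  exact hb.trans (Category.id_comp _)

section Homology

variable {F : EtCoh.Ab T} (I : InjectiveResolution F) (J : InjectiveResolution ((EtCoh.pull e).obj F)) (q : ℕ)

/-- The homology of the source complex computes the source of base change. -/
noncomputable def srcIso : (((EtCoh.pull f).mapHomologicalComplex (ComplexShape.up ℕ)).obj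
      (((EtCoh.push g).mapHomologicalComplex (ComplexShape.up ℕ)).obj I.cocomplex)).homology q ≅
    (EtCoh.pull f).obj ((EtCoh.Rpush g q).obj F) :=
  haveI := isIso_homologyComparison (EtCoh.pull f) (((EtCoh.push g).mapHomologicalComplex _).obj I.cocomplex) q
  asIso (RDer.homologyComparison (EtCoh.pull f) (((EtCoh.push g).mapHomologicalComplex _).obj I.cocomplex) q) ≪≫
    (EtCoh.pull f).mapIso (I.isoRightDerivedObj (EtCoh.push g) q).symm

theorem theta_srcIso (ψ : ((EtCoh.pull e).mapHomologicalComplex (ComplexShape.up ℕ)).obj I.cocomplex ⟶ J.cocomplex)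
    (hψ : (EtCoh.pull e).map (I.ι.f 0) ≫ ψ.f 0 = J.ι.f 0) :
    homologyMap (theta g f h e w I J ψ) q ≫ (J.isoRightDerivedObj (EtCoh.push h) q).inv =
      (srcIso f g I q).hom ≫ EtBC.bcQ g f h e w q F :=
  (bcQ_eq g f h e w I J ψ hψ q).symm.trans (Category.assoc _ _ _).symm

theorem srcIso_naturality {F' : EtCoh.Ab T} (I' : InjectiveResolution F') (φ : I.cocomplex ⟶ I'.cocomplex)
    (k : F ⟶ F') (hk : I.ι.f 0 ≫ φ.f 0 = k ≫ I'.ι.f 0) :
    homologyMap (((EtCoh.pull f).mapHomologicalComplex _).map (((EtCoh.push g).mapHomologicalComplex _).map φ)) q ≫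
        (srcIso f g I' q).hom =
      (srcIso f g I q).hom ≫ (EtCoh.pull f).map ((EtCoh.Rpush g q).map k) := by
  show homologyMap _ q ≫ RDer.homologyComparison _ _ q ≫ (EtCoh.pull f).map (I'.isoRightDerivedObj _ q).inv =
    (RDer.homologyComparison _ _ q ≫ (EtCoh.pull f).map (I.isoRightDerivedObj _ q).inv) ≫ _
  rw [← Category.assoc, homologyComparison_natural, Category.assoc, Category.assoc, ← Functor.map_comp,
    ← Functor.map_comp]
  exact congrArg (fun t => _ ≫ (EtCoh.pull f).map t)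
    (InjectiveResolution.isoRightDerivedObj_inv_naturality k I I' φ hk (EtCoh.push g) q).symm

end Homology

theorem bcQ_naturality {F F' : EtCoh.Ab T} (k : F ⟶ F') (q : ℕ) :
    EtBC.bcQ g f h e w q F ≫ (EtCoh.Rpush h q).map ((EtCoh.pull e).map k) =
      (EtCoh.pull f).map ((EtCoh.Rpush g q).map k) ≫ EtBC.bcQ g f h e w q F' := by
  let I := injectiveResolution F
  let I' := injectiveResolution F'
  let J := injectiveResolution ((EtCoh.pull e).obj F)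
  let J' := injectiveResolution ((EtCoh.pull e).obj F')
  obtain ⟨ψ, hψ⟩ := exists_psi e I J
  obtain ⟨ψ', hψ'⟩ := exists_psi e I' J'
  let φ : I.cocomplex ⟶ I'.cocomplex := InjectiveResolution.desc k I' I
  let φ' : J.cocomplex ⟶ J'.cocomplex := InjectiveResolution.desc ((EtCoh.pull e).map k) J' J
  have hφ : I.ι.f 0 ≫ φ.f 0 = k ≫ I'.ι.f 0 := InjectiveResolution.desc_commutes_zero k I' I
  have hφ' : J.ι.f 0 ≫ φ'.f 0 = (EtCoh.pull e).map k ≫ J'.ι.f 0 :=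
    InjectiveResolution.desc_commutes_zero ((EtCoh.pull e).map k) J' J
  refine (cancel_epi (srcIso f g I q).hom).1 ?_
  rw [← reassoc_of% (theta_srcIso f g h e w I J q ψ hψ), ← reassoc_of% (srcIso_naturality f g I q I' φ k hφ),
    ← theta_srcIso f g h e w I' J' q ψ' hψ',
    InjectiveResolution.isoRightDerivedObj_inv_naturality ((EtCoh.pull e).map k) J J' φ' hφ' (EtCoh.push h) q]
  show homologyMap _ q ≫ homologyMap _ q ≫ _ = homologyMap _ q ≫ homologyMap _ q ≫ _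
  rw [← Category.assoc, ← Category.assoc, ← homologyMap_comp, ← homologyMap_comp]
  refine congrArg (· ≫ _) ?_
  let B := (NatTrans.mapHomologicalComplex (bc0Nat g f h e w) (ComplexShape.up ℕ))
  let L := (EtCoh.push h).mapHomologicalComplex (ComplexShape.up ℕ)
  let E := (EtCoh.pull e).mapHomologicalComplex (ComplexShape.up ℕ)
  have h₁ : theta g f h e w I J ψ ≫ L.map φ' = B.app I.cocomplex ≫ L.map (ψ ≫ φ') := by
    rw [theta, Category.assoc, ← L.map_comp]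
  have h₂ : ((EtCoh.pull f).mapHomologicalComplex _).map (((EtCoh.push g).mapHomologicalComplex _).map φ) ≫
      theta g f h e w I' J' ψ' = B.app I.cocomplex ≫ L.map (E.map φ ≫ ψ') := by
    rw [theta, L.map_comp, ← Category.assoc, ← Category.assoc]
    exact congrArg (· ≫ L.map ψ') (B.naturality φ)
  rw [h₁, h₂, homologyMap_comp, homologyMap_comp]
  refine congrArg (_ ≫ ·) ?_
  haveI : ∀ n, Injective (J'.cocomplex.X n) := J'.injective
  refine homologyMap_map_eq' (RDer.mapAug (EtCoh.pull e) I.ι) (EtCoh.push h) _ _ ?_ q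
  rw [mapAug_zero]
  show (EtCoh.pull e).map (I.ι.f 0) ≫ ψ.f 0 ≫ φ'.f 0 =
    (EtCoh.pull e).map (I.ι.f 0) ≫ (EtCoh.pull e).map (φ.f 0) ≫ ψ'.f 0
  rw [reassoc_of% hψ, hφ', ← Category.assoc, ← Functor.map_comp, hφ, Functor.map_comp, Category.assoc, hψ']

section Main

variable (Sc : ShortComplex (EtCoh.Ab T)) (hSc : Sc.ShortExact) (i q : ℕ) (hiq : i + 1 = q)

include hSc hiq in
theorem mono_bcQ_of_ses (h₂ : Epi (EtBC.bcQ g f h e w i Sc.X₂)) (h₃ : Mono (EtBC.bcQ g f h e w i Sc.X₃))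
    (hz : Mono (EtBC.bcQ g f h e w q Sc.X₂)) : Mono (EtBC.bcQ g f h e w q Sc.X₁) := by
  obtain ⟨R, R', ψ₁, ψ₂, ψ₃, p₁, p₂, p₃, c₁, c₃⟩ := exists_resolutions e Sc hSc
  let G := EtCoh.push g ⋙ EtCoh.pull f
  let S₁ := R.cx.map (G.mapHomologicalComplex (ComplexShape.up ℕ))
  let S₂ := R'.cx.map ((EtCoh.push h).mapHomologicalComplex (ComplexShape.up ℕ))
  have hS₁ : S₁.ShortExact := R.map_shortExact G
  have hS₂ : S₂.ShortExact := R'.map_shortExact (EtCoh.push h)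
  let φ : S₁ ⟶ S₂ := ShortComplex.homMk (theta g f h e w R.I₁ R'.I₁ ψ₁) (theta g f h e w R.I₂ R'.I₂ ψ₂)
    (theta g f h e w R.I₃ R'.I₃ ψ₃) (theta_naturality f g h e w R.I₁ R.I₂ R'.I₁ R'.I₂ R.f R'.f ψ₁ ψ₂ c₁).symm
      (theta_naturality f g h e w R.I₂ R.I₃ R'.I₂ R'.I₃ R.g R'.g ψ₂ ψ₃ c₃).symm
  haveI := h₂
  haveI := h₃
  haveI := hz
  have e₁ := theta_srcIso f g h e w R.I₁ R'.I₁ q ψ₁ p₁
  have m₂ : Mono (homologyMap φ.τ₂ q) := by
    haveI : Mono (homologyMap φ.τ₂ q ≫ (R'.I₂.isoRightDerivedObj (EtCoh.push h) q).inv) := by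
      rw [show homologyMap φ.τ₂ q ≫ _ = _ from theta_srcIso f g h e w R.I₂ R'.I₂ q ψ₂ p₂]; infer_instance
    exact mono_of_mono _ (R'.I₂.isoRightDerivedObj (EtCoh.push h) q).inv
  have m₃ : Mono (homologyMap φ.τ₃ i) := by
    haveI : Mono (homologyMap φ.τ₃ i ≫ (R'.I₃.isoRightDerivedObj (EtCoh.push h) i).inv) := by
      rw [show homologyMap φ.τ₃ i ≫ _ = _ from theta_srcIso f g h e w R.I₃ R'.I₃ i ψ₃ p₃]; infer_instance
    exact mono_of_mono _ (R'.I₃.isoRightDerivedObj (EtCoh.push h) i).inv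
  have e₂ : Epi (homologyMap φ.τ₂ i) := by
    have hh : homologyMap φ.τ₂ i = ((srcIso f g R.I₂ i).hom ≫ EtBC.bcQ g f h e w i Sc.X₂) ≫
        (R'.I₂.isoRightDerivedObj (EtCoh.push h) i).hom :=
      (Iso.comp_inv_eq _).1 (theta_srcIso f g h e w R.I₂ R'.I₂ i ψ₂ p₂)
    rw [hh]; infer_instance
  have m₁ : Mono (homologyMap φ.τ₁ q) := by
    apply Abelian.mono_of_epi_of_mono_of_mono
      ((ComposableArrows.δ₀Functor ⋙ ComposableArrows.δlastFunctor).map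
        (HomologicalComplex.HomologySequence.mapComposableArrows₅ φ hS₁ hS₂ i q hiq))
    · exact (HomologicalComplex.HomologySequence.composableArrows₅_exact hS₁ i q hiq).δ₀.δlast
    · exact (HomologicalComplex.HomologySequence.composableArrows₅_exact hS₂ i q hiq).δ₀.δlast
    · exact e₂
    · exact m₃
    · exact m₂
  rw [show EtBC.bcQ g f h e w q Sc.X₁ = (srcIso f g R.I₁ q).inv ≫
      (homologyMap φ.τ₁ q ≫ (R'.I₁.isoRightDerivedObj (EtCoh.push h) q).inv) from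
    ((Iso.inv_comp_eq _).2 e₁).symm]
  infer_instance

include hSc hiq in
theorem mono_coker_of_ses (h₃ : Epi (EtBC.bcQ g f h e w i Sc.X₃)) (h₃' : Mono (EtBC.bcQ g f h e w q Sc.X₃)) :
    Mono (cokernel.map (EtBC.bcQ g f h e w q Sc.X₁) (EtBC.bcQ g f h e w q Sc.X₂)
      ((EtCoh.pull f).map ((EtCoh.Rpush g q).map Sc.f)) ((EtCoh.Rpush h q).map ((EtCoh.pull e).map Sc.f))
      (bcQ_naturality f g h e w Sc.f q)) := by
  obtain ⟨R, R', ψ₁, ψ₂, ψ₃, p₁, p₂, p₃, c₁, c₃⟩ := exists_resolutions e Sc hSc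
  let G := EtCoh.push g ⋙ EtCoh.pull f
  let S₁ := R.cx.map (G.mapHomologicalComplex (ComplexShape.up ℕ))
  let S₂ := R'.cx.map ((EtCoh.push h).mapHomologicalComplex (ComplexShape.up ℕ))
  have hS₁ : S₁.ShortExact := R.map_shortExact G
  have hS₂ : S₂.ShortExact := R'.map_shortExact (EtCoh.push h)
  let φ : S₁ ⟶ S₂ := ShortComplex.homMk (theta g f h e w R.I₁ R'.I₁ ψ₁) (theta g f h e w R.I₂ R'.I₂ ψ₂)
    (theta g f h e w R.I₃ R'.I₃ ψ₃) (theta_naturality f g h e w R.I₁ R.I₂ R'.I₁ R'.I₂ R.f R'.f ψ₁ ψ₂ c₁).symm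
      (theta_naturality f g h e w R.I₂ R.I₃ R'.I₂ R'.I₃ R.g R'.g ψ₂ ψ₃ c₃).symm
  have w₁ : homologyMap S₁.f q ≫ homologyMap φ.τ₂ q = homologyMap φ.τ₁ q ≫ homologyMap S₂.f q := by
    rw [← homologyMap_comp, ← homologyMap_comp, φ.comm₁₂]
  have w₂ : homologyMap S₁.g q ≫ homologyMap φ.τ₃ q = homologyMap φ.τ₂ q ≫ homologyMap S₂.g q := by
    rw [← homologyMap_comp, ← homologyMap_comp, φ.comm₂₃]
  haveI : Epi (homologyMap φ.τ₃ i) := by
    haveI := h₃
    rw [show homologyMap φ.τ₃ i = ((srcIso f g R.I₃ i).hom ≫ EtBC.bcQ g f h e w i Sc.X₃) ≫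
        (R'.I₃.isoRightDerivedObj (EtCoh.push h) i).hom from
      (Iso.comp_inv_eq _).1 (theta_srcIso f g h e w R.I₃ R'.I₃ i ψ₃ p₃)]
    infer_instance
  haveI : Mono (homologyMap φ.τ₃ q) := by
    haveI := h₃'
    rw [show homologyMap φ.τ₃ q = ((srcIso f g R.I₃ q).hom ≫ EtBC.bcQ g f h e w q Sc.X₃) ≫
        (R'.I₃.isoRightDerivedObj (EtCoh.push h) q).hom from
      (Iso.comp_inv_eq _).1 (theta_srcIso f g h e w R.I₃ R'.I₃ q ψ₃ p₃)]
    infer_instance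
  haveI := mono_cokernel_map (homologyMap φ.τ₃ i) (homologyMap φ.τ₁ q) (homologyMap φ.τ₂ q) (homologyMap φ.τ₃ q)
    (HomologicalComplex.HomologySequence.δ_naturality φ hS₁ hS₂ i q hiq) w₁ w₂ _ (hS₁.homology_exact₂ q)
    (by rw [← homologyMap_comp, S₂.zero, homologyMap_zero]) _ (hS₂.homology_exact₁ i q hiq)
  exact mono_cokernel_map_of_iso (homologyMap φ.τ₁ q) (homologyMap φ.τ₂ q)
    (srcIso f g R.I₁ q) (R'.I₁.isoRightDerivedObj (EtCoh.push h) q).symm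
    (srcIso f g R.I₂ q) (R'.I₂.isoRightDerivedObj (EtCoh.push h) q).symm _ _ _ _ _ w₁
    (theta_srcIso f g h e w R.I₁ R'.I₁ q ψ₁ p₁) (theta_srcIso f g h e w R.I₂ R'.I₂ q ψ₂ p₂)
    (InjectiveResolution.isoRightDerivedObj_inv_naturality ((EtCoh.pull e).map Sc.f) R'.I₁ R'.I₂ R'.f
      (SESResLib.ι₀_comm R'.ι_f) (EtCoh.push h) q).symm

end Main

end Groth.Agent.EtBCQ
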