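import Groth.Agent.EtFound.FiniteBaseChange

/-!
# Pasting of base change maps in degree zero
-/

set_option autoImplicit false
set_option linter.style.haveILetI false

universe u

open CategoryTheory CategoryTheory.Limits AlgebraicGeometry Opposite

namespace Groth.Agent.EtBCQ

set_option backward.isDefEq.respectTransparency false
set_option backward.isDefEq.respectTransparency.types false

section Ext

variable {A B C D : Scheme.{u}}

theorem bc_hom_ext {p : B ⟶ A} {W : A.Etale} {E : B.Etale} {m m' : E ⟶ (EtCoh.bc p).obj W}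
    (h : m.left ≫ pullback.fst W.hom p = m'.left ≫ pullback.fst W.hom p) : m = m' :=
  MorphismProperty.Over.Hom.ext (pullback.hom_ext h
    ((MorphismProperty.Over.w m).trans (MorphismProperty.Over.w m').symm))

/-- The structure map of a morphism into a base change, pushed down. -/
theorem bc_fst_hom {p : B ⟶ A} {W : A.Etale} {E : B.Etale} (m : E ⟶ (EtCoh.bc p).obj W) :
    (m.left ≫ pullback.fst W.hom p) ≫ W.hom = E.hom ≫ p := by
  rw [Category.assoc, pullback.condition, ← Category.assoc]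
  exact congrArg (· ≫ p) (MorphismProperty.Over.w m)

theorem bc2_hom_ext {p : B ⟶ A} {r : C ⟶ B} {W : A.Etale} {E : C.Etale}
    {m m' : E ⟶ (EtCoh.bc r).obj ((EtCoh.bc p).obj W)}
    (h : m.left ≫ pullback.fst ((EtCoh.bc p).obj W).hom r ≫ pullback.fst W.hom p =
      m'.left ≫ pullback.fst ((EtCoh.bc p).obj W).hom r ≫ pullback.fst W.hom p) : m = m' :=
  bc_hom_ext (pullback.hom_ext (((Category.assoc _ _ _).trans h).trans (Category.assoc _ _ _).symm)
    ((bc_fst_hom m).trans (bc_fst_hom m').symm))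

theorem bc3_hom_ext {p : B ⟶ A} {r : C ⟶ B} {s : D ⟶ C} {W : A.Etale} {E : D.Etale}
    {m m' : E ⟶ (EtCoh.bc s).obj ((EtCoh.bc r).obj ((EtCoh.bc p).obj W))}
    (h : m.left ≫ pullback.fst ((EtCoh.bc r).obj ((EtCoh.bc p).obj W)).hom s ≫
        pullback.fst ((EtCoh.bc p).obj W).hom r ≫ pullback.fst W.hom p =
      m'.left ≫ pullback.fst ((EtCoh.bc r).obj ((EtCoh.bc p).obj W)).hom s ≫
        pullback.fst ((EtCoh.bc p).obj W).hom r ≫ pullback.fst W.hom p) : m = m' := by
  refine bc_hom_ext (pullback.hom_ext (pullback.hom_ext ?_ ?_) ((bc_fst_hom m).trans (bc_fst_hom m').symm))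
  · simp only [Category.assoc]
    exact h
  · have key : ∀ n : E ⟶ (EtCoh.bc s).obj ((EtCoh.bc r).obj ((EtCoh.bc p).obj W)),
        ((n.left ≫ pullback.fst ((EtCoh.bc r).obj ((EtCoh.bc p).obj W)).hom s) ≫
          pullback.fst ((EtCoh.bc p).obj W).hom r) ≫ ((EtCoh.bc p).obj W).hom = (E.hom ≫ s) ≫ r := fun n => by
      rw [Category.assoc, pullback.condition, ← Category.assoc]
      exact congrArg (· ≫ r) (bc_fst_hom n)
    exact (key m).trans (key m').symm

theorem bc_map_fst (p : B ⟶ A) {W W' : A.Etale} (m : W ⟶ W') :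
    ((EtCoh.bc p).map m).left ≫ pullback.fst W'.hom p = pullback.fst W.hom p ≫ m.left :=
  pullback.lift_fst _ _ _

theorem bcSquare_fst' {X Y X' Y' : Scheme.{u}} {f : X ⟶ Y} {g : Y' ⟶ Y} {f' : X' ⟶ Y'} {g' : X' ⟶ X}
    (w : g' ≫ f = f' ≫ g) (V : Y.Etale) :
    (EtFound.bcSquare w V).left ≫ pullback.fst ((EtCoh.bc f).obj V).hom g' ≫ pullback.fst V.hom f =
      pullback.fst ((EtCoh.bc g).obj V).hom f' ≫ pullback.fst V.hom g :=
  EtFound.bcSquare_fst w V

theorem comp_left' {E E' E'' : A.Etale} (m : E ⟶ E') (n : E' ⟶ E'') : (m ≫ n).left = m.left ≫ n.left := rfl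

end Ext

section Up

variable {T S : Scheme.{u}} (g : T ⟶ S)

/-- A section of an abelian sheaf as a section of its inverse image. -/
noncomputable def upA (A : EtCoh.Ab S) (V : S.Etale) (x : ToType (A.obj.obj (op V))) :
    ToType (((EtCoh.pull g).obj A).obj.obj (op ((EtCoh.bc g).obj V))) :=
  ((EtCoh.pullPushAdj g).unit.app A).hom.app (op V) x

theorem upA_map (A : EtCoh.Ab S) {V V' : S.Etale} (m : V' ⟶ V) (x : ToType (A.obj.obj (op V))) :
    upA g A V' (A.obj.map m.op x) = ((EtCoh.pull g).obj A).obj.map ((EtCoh.bc g).map m).op (upA g A V x) :=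
  NatTrans.naturality_apply ((EtCoh.pullPushAdj g).unit.app A).hom m.op x

theorem upA_app {A A' : EtCoh.Ab S} (φ : A ⟶ A') (V : S.Etale) (x : ToType (A.obj.obj (op V))) :
    ((EtCoh.pull g).map φ).hom.app (op ((EtCoh.bc g).obj V)) (upA g A V x) = upA g A' V (φ.hom.app (op V) x) :=
  (ConcreteCategory.congr_hom (congrArg (fun α : A ⟶ _ => α.hom.app (op V))
    ((EtCoh.pullPushAdj g).unit.naturality φ)) x).symm

theorem transpose_upA {A : EtCoh.Ab S} {B : EtCoh.Ab T} (φ : A ⟶ (EtCoh.push g).obj B) (V : S.Etale)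
    (x : ToType (A.obj.obj (op V))) :
    (((EtCoh.pullPushAdj g).homEquiv _ _).symm φ).hom.app (op ((EtCoh.bc g).obj V)) (upA g A V x) =
      φ.hom.app (op V) x := by
  have h := ((EtCoh.pullPushAdj g).homEquiv _ _).apply_symm_apply φ
  rw [Adjunction.homEquiv_unit] at h
  exact ConcreteCategory.congr_hom (congrArg (fun α : A ⟶ _ => α.hom.app (op V)) h) x

theorem pull_hom_ext {A : EtCoh.Ab S} {B : EtCoh.Ab T} {φ ψ : (EtCoh.pull g).obj A ⟶ B}
    (h : ∀ (V : S.Etale) (x : ToType (A.obj.obj (op V))),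
      φ.hom.app (op ((EtCoh.bc g).obj V)) (upA g A V x) = ψ.hom.app (op ((EtCoh.bc g).obj V)) (upA g A V x)) :
    φ = ψ := by
  refine ((EtCoh.pullPushAdj g).homEquiv _ _).injective ?_
  rw [Adjunction.homEquiv_unit, Adjunction.homEquiv_unit]
  exact Sheaf.hom_ext (NatTrans.ext (funext fun V => ConcreteCategory.hom_ext _ _ (h V.unop)))

theorem pull2_hom_ext {U : Scheme.{u}} (a : U ⟶ T) {A : EtCoh.Ab S} {B : EtCoh.Ab U}
    {φ ψ : (EtCoh.pull a).obj ((EtCoh.pull g).obj A) ⟶ B}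
    (h : ∀ (V : S.Etale) (x : ToType (A.obj.obj (op V))),
      φ.hom.app (op ((EtCoh.bc a).obj ((EtCoh.bc g).obj V))) (upA a _ _ (upA g A V x)) =
        ψ.hom.app (op ((EtCoh.bc a).obj ((EtCoh.bc g).obj V))) (upA a _ _ (upA g A V x))) :
    φ = ψ := by
  refine ((EtCoh.pullPushAdj a).homEquiv _ _).injective (pull_hom_ext g fun V x => ?_)
  rw [Adjunction.homEquiv_unit, Adjunction.homEquiv_unit]
  exact h V x

end Up

section Sq

variable {X S X' S' : Scheme.{u}} (f : X ⟶ S) (g : S' ⟶ S) (f' : X' ⟶ S') (g' : X' ⟶ X) (w : g' ≫ f = f' ≫ g)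

theorem baseChange0_upA (F : EtCoh.Ab X) (V : S.Etale) (x : ToType (F.obj.obj (op ((EtCoh.bc f).obj V)))) :
    (EtCoh.baseChange0 f g f' g' w F).hom.app (op ((EtCoh.bc g).obj V)) (upA g ((EtCoh.push f).obj F) V x) =
      ((EtCoh.pull g').obj F).obj.map (EtFound.bcSquare w V).op (upA g' F ((EtCoh.bc f).obj V) x) :=
  ConcreteCategory.congr_hom (EtFound.baseChange0_unit f g f' g' w F V) x

theorem baseChange0_naturality {F F' : EtCoh.Ab X} (φ : F ⟶ F') :
    (EtCoh.pull g).map ((EtCoh.push f).map φ) ≫ EtCoh.baseChange0 f g f' g' w F' =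
      EtCoh.baseChange0 f g f' g' w F ≫ (EtCoh.push f').map ((EtCoh.pull g').map φ) := by
  refine pull_hom_ext g fun V x => ?_
  show (EtCoh.baseChange0 f g f' g' w F').hom.app _ (((EtCoh.pull g).map ((EtCoh.push f).map φ)).hom.app _ (upA g _ V x)) =
    ((EtCoh.pull g').map φ).hom.app (op ((EtCoh.bc f').obj ((EtCoh.bc g).obj V)))
      ((EtCoh.baseChange0 f g f' g' w F).hom.app _ (upA g _ V x))
  rw [upA_app, baseChange0_upA, baseChange0_upA, NatTrans.naturality_apply ((EtCoh.pull g').map φ).hom, upA_app]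
  rfl

/-- The base change map as a natural transformation. -/
noncomputable def bc0Nat : EtCoh.push f ⋙ EtCoh.pull g ⟶ EtCoh.pull g' ⋙ EtCoh.push f' where
  app F := EtCoh.baseChange0 f g f' g' w F
  naturality _ _ φ := baseChange0_naturality f g f' g' w φ

/-- The comparison of the inverse images around a commutative square. -/
noncomputable def sqPull (A : EtCoh.Ab S) :
    (EtCoh.pull f').obj ((EtCoh.pull g).obj A) ⟶ (EtCoh.pull g').obj ((EtCoh.pull f).obj A) :=
  ((EtCoh.pullPushAdj f').homEquiv _ _).symm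
    ((EtCoh.pull g).map ((EtCoh.pullPushAdj f).unit.app A) ≫ EtCoh.baseChange0 f g f' g' w ((EtCoh.pull f).obj A))

theorem sqPull_upA (A : EtCoh.Ab S) (V : S.Etale) (x : ToType (A.obj.obj (op V))) :
    (sqPull f g f' g' w A).hom.app (op ((EtCoh.bc f').obj ((EtCoh.bc g).obj V))) (upA f' _ _ (upA g A V x)) =
      ((EtCoh.pull g').obj ((EtCoh.pull f).obj A)).obj.map (EtFound.bcSquare w V).op
        (upA g' _ _ (upA f A V x)) := by
  rw [sqPull, transpose_upA]
  show (EtCoh.baseChange0 f g f' g' w _).hom.app _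
    (((EtCoh.pull g).map ((EtCoh.pullPushAdj f).unit.app A)).hom.app _ (upA g A V x)) = _
  exact (congrArg _ (upA_app g ((EtCoh.pullPushAdj f).unit.app A) V x)).trans (baseChange0_upA f g f' g' w _ V _)

theorem sqPull_naturality {A A' : EtCoh.Ab S} (φ : A ⟶ A') :
    (EtCoh.pull f').map ((EtCoh.pull g).map φ) ≫ sqPull f g f' g' w A' =
      sqPull f g f' g' w A ≫ (EtCoh.pull g').map ((EtCoh.pull f).map φ) := by
  refine pull2_hom_ext g f' fun V x => ?_
  show (sqPull f g f' g' w A').hom.app _ (((EtCoh.pull f').map ((EtCoh.pull g).map φ)).hom.app _ _) =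
    ((EtCoh.pull g').map ((EtCoh.pull f).map φ)).hom.app _ ((sqPull f g f' g' w A).hom.app _ _)
  rw [upA_app, upA_app, sqPull_upA, sqPull_upA, NatTrans.naturality_apply ((EtCoh.pull g').map _).hom, upA_app, upA_app]

theorem sqPull_comp (A : EtCoh.Ab S) : sqPull f g f' g' w A ≫ sqPull g f g' f' w.symm A = 𝟙 _ := by
  refine pull2_hom_ext g f' fun V x => ?_
  show (sqPull g f g' f' w.symm A).hom.app _ ((sqPull f g f' g' w A).hom.app _ _) = upA f' _ _ (upA g A V x)
  rw [sqPull_upA, NatTrans.naturality_apply (sqPull g f g' f' w.symm A).hom, sqPull_upA]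
  have h : EtFound.bcSquare w V ≫ EtFound.bcSquare w.symm V = 𝟙 _ := by
    refine bc2_hom_ext ?_
    refine (Category.assoc _ _ _).trans ((congrArg ((EtFound.bcSquare w V).left ≫ ·) (bcSquare_fst' w.symm V)).trans
      ((bcSquare_fst' w V).trans (Category.id_comp _).symm))
  rw [← Functor.map_comp_apply, ← op_comp, h, op_id, CategoryTheory.Functor.map_id]
  rfl

/-- The comparison of the inverse images as an isomorphism of functors. -/
noncomputable def sqPullIso : EtCoh.pull g ⋙ EtCoh.pull f' ≅ EtCoh.pull f ⋙ EtCoh.pull g' :=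
  NatIso.ofComponents (fun A => ⟨sqPull f g f' g' w A, sqPull g f g' f' w.symm A,
    sqPull_comp f g f' g' w A, sqPull_comp g f g' f' w.symm A⟩) fun φ => sqPull_naturality f g f' g' w φ

end Sq

section Paste

variable {X S Y T U V Ti Yi : Scheme.{u}} (f : X ⟶ S) (g : T ⟶ S) (h : Y ⟶ X) (e : Y ⟶ T) (w : e ≫ g = h ≫ f)
  (u : U ⟶ X) (v : V ⟶ S) (a : U ⟶ V) (wa : a ≫ v = u ≫ f) (gi : Ti ⟶ V) (ti : Ti ⟶ T) (wT : ti ≫ g = gi ≫ v)
  (hi : Yi ⟶ U) (ei : Yi ⟶ Ti) (wY : ei ≫ gi = hi ≫ a) (q : Yi ⟶ Y) (wq : q ≫ h = hi ≫ u) (wqe : q ≫ e = ei ≫ ti)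

theorem bcSquare_paste (W : S.Etale) :
    (EtCoh.bc hi).map (EtFound.bcSquare wa W ≫ (EtCoh.bc a).map (𝟙 _)) ≫ EtFound.bcSquare wY ((EtCoh.bc v).obj W) ≫
        (EtCoh.bc ei).map (EtFound.bcSquare wT W) ≫ EtFound.bcSquare wqe ((EtCoh.bc g).obj W) =
      EtFound.bcSquare wq ((EtCoh.bc f).obj W) ≫ (EtCoh.bc q).map (EtFound.bcSquare w W) := by
  refine bc3_hom_ext ?_
  simp only [comp_left', Category.assoc, CategoryTheory.Functor.map_id, Category.comp_id]
  rw [reassoc_of% (bcSquare_fst' wqe ((EtCoh.bc g).obj W)), reassoc_of% (bc_map_fst ei (EtFound.bcSquare wT W)),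
    bcSquare_fst' wT W, reassoc_of% (bcSquare_fst' wY ((EtCoh.bc v).obj W)),
    reassoc_of% (bc_map_fst hi (EtFound.bcSquare wa W)), bcSquare_fst' wa W,
    reassoc_of% (bc_map_fst q (EtFound.bcSquare w W)), bcSquare_fst' w W,
    reassoc_of% (bcSquare_fst' wq ((EtCoh.bc f).obj W))]

/-- Base change in degree zero for a pasting of squares. -/
theorem baseChange0_paste (A : EtCoh.Ab T) :
    (EtCoh.pull u).map (EtCoh.baseChange0 g f h e w A) ≫ EtCoh.baseChange0 h u hi q wq ((EtCoh.pull e).obj A) =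
      sqPull v f u a wa ((EtCoh.push g).obj A) ≫ (EtCoh.pull a).map (EtCoh.baseChange0 g v gi ti wT A) ≫
        EtCoh.baseChange0 gi a hi ei wY ((EtCoh.pull ti).obj A) ≫ (EtCoh.push hi).map (sqPull e ti ei q wqe A) := by
  refine pull2_hom_ext f u fun W x => ?_
  show (EtCoh.baseChange0 h u hi q wq _).hom.app _ (((EtCoh.pull u).map (EtCoh.baseChange0 g f h e w A)).hom.app _ _) =
    (sqPull e ti ei q wqe A).hom.app (op ((EtCoh.bc hi).obj _))
      ((EtCoh.baseChange0 gi a hi ei wY _).hom.app _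
        (((EtCoh.pull a).map (EtCoh.baseChange0 g v gi ti wT A)).hom.app _
          ((sqPull v f u a wa _).hom.app _ _)))
  rw [upA_app, baseChange0_upA, baseChange0_upA]
  conv_rhs => rw [sqPull_upA, NatTrans.naturality_apply ((EtCoh.pull a).map (EtCoh.baseChange0 g v gi ti wT A)).hom,
    upA_app, baseChange0_upA, NatTrans.naturality_apply (EtCoh.baseChange0 gi a hi ei wY ((EtCoh.pull ti).obj A)).hom,
    baseChange0_upA]
  rw [upA_map, upA_map]
  show _ = (sqPull e ti ei q wqe A).hom.app _ (((EtCoh.pull ei).obj ((EtCoh.pull ti).obj A)).obj.map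
    ((EtCoh.bc hi).map (EtFound.bcSquare wa W)).op (((EtCoh.pull ei).obj ((EtCoh.pull ti).obj A)).obj.map _ _))
  rw [← Functor.map_comp_apply, ← Functor.map_comp_apply, NatTrans.naturality_apply (sqPull e ti ei q wqe A).hom,
    NatTrans.naturality_apply (sqPull e ti ei q wqe A).hom, sqPull_upA]
  rw [← Functor.map_comp_apply, ← Functor.map_comp_apply]
  have hm := bcSquare_paste f g h e w u v a wa gi ti wT hi ei wY q wq wqe W
  rw [CategoryTheory.Functor.map_id, Category.comp_id] at hm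
  simp only [← op_comp, Category.assoc]
  rw [hm]

end Paste

end Groth.Agent.EtBCQ
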